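import Cfsg.Agent.Lib.PermComp.OutP.Master2
import Cfsg.Agent.Lib.PermComp.OutP.Fi22.DataP0

set_option autoImplicit false
set_option maxRecDepth 100000
set_option maxHeartbeats 0

namespace Cfsg.Agent.Lib.PermComp.OutP.Fi22

open Cfsg Cfsg.Agent.Lib.PermComp.OutP
open Cfsg.Agent.Lib.PermComp.Core (force)
open Cfsg.Agent.Lib.PermComp.Kron (rangeAll rangeAll_spec)

def n : Nat := 3510
def mF : Nat := 70
noncomputable def TT_T : Nat := (Nat.lor (Nat.lor (Nat.lor (Nat.lor (Nat.lor (Nat.lor (Nat.lor TT_p0 (Nat.shiftLeft (Nat.lor TT_p1 (Nat.shiftLeft TT_p2 15996)) 15996)) (Nat.shiftLeft (Nat.lor (Nat.lor TT_p3 (Nat.shiftLeft TT_p4 15996)) (Nat.shiftLeft (Nat.lor TT_p5 (Nat.shiftLeft TT_p6 15996)) 31992)) 47988)) (Nat.shiftLeft (Nat.lor (Nat.lor (Nat.lor TT_p7 (Nat.shiftLeft TT_p8 15996)) (Nat.shiftLeft (Nat.lor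 TT_p9 (Nat.shiftLeft TT_p10 15996)) 31992)) (Nat.shiftLeft (Nat.lor (Nat.lor TT_p11 (Nat.shiftLeft TT_p12 15996)) (Nat.shiftLeft (Nat.lor TT_p13 (Nat.shiftLeft TT_p14 15996)) 31992)) 63984)) 111972)) (Nat.shiftLeft (Nat.lor (Nat.lor (Nat.lor (Nat.lor TT_p15 (Nat.shiftLeft TT_p16 15996)) (Nat.shiftLeft (Nat.lor TT_p17 (Nat.shiftLeft TT_p18 15996)) 31992)) (Nat.shiftLeft (Nat.lor (Nat.lor TT_p19 (Nat.shiftLeft TT_p20 15996)) (Nat.shiftLeft (Nat.lor TT_p21 (Nat.shiftLeft TT_p22 15996)) 31992)) 63984)) (Nat.shiftLeft (Nat.lor (Nat.lor (Nat.lor TT_p23 (Nat.shiftLeft TT_p24 15996)) (Nat.shiftLeft (Nat.lor TT_p25 (Nat.shiftLeft TT_p26 15996)) 31992)) (Nat.shiftLeft (Nat.lor (Nat.lor TT_p27 (Nat.shiftLeft TT_p28 15996)) (Nat.shiftLeft (Nat.lor TT_p29 (Nat.shiftLeft TT_p30 15996)) 31992)) 63984)) 127968)) 239940))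 (Nat.shiftLeft (Nat.lor (Nat.lor (Nat.lor (Nat.lor TT_p31 (Nat.shiftLeft (Nat.lor TT_p32 (Nat.shiftLeft TT_p33 15996)) 15996)) (Nat.shiftLeft (Nat.lor (Nat.lor TT_p34 (Nat.shiftLeft TT_p35 15996)) (Nat.shiftLeft (Nat.lor TT_p36 (Nat.shiftLeft TT_p37 15996)) 31992)) 47988)) (Nat.shiftLeft (Nat.lor (Nat.lor (Nat.lor TT_p38 (Nat.shiftLeft TT_p39 15996)) (Nat.shiftLeft (Nat.lor TT_p40 (Nat.shiftLeft TT_p41 15996)) 31992)) (Nat.shiftLeft (Nat.lor (Nat.lor TT_p42 (Nat.shiftLeft TT_p43 15996)) (Nat.shiftLeft (Nat.lor TT_p44 (Nat.shiftLeft TT_p45 15996)) 31992)) 63984)) 111972)) (Nat.shiftLeft (Nat.lor (Nat.lor (Nat.lor (Nat.lor TT_p46 (Nat.shiftLeft TT_p47 15996)) (Nat.shiftLeft (Nat.lor TT_p48 (Nat.shiftLeft TT_p49 15996)) 31992)) (Nat.shiftLeft (Nat.lor (Nat.lor TT_p50 (Nat.shiftLeft TT_p51 15996)) (Nat.shiftLeft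 (Nat.lor TT_p52 (Nat.shiftLeft TT_p53 15996)) 31992)) 63984)) (Nat.shiftLeft (Nat.lor (Nat.lor (Nat.lor TT_p54 (Nat.shiftLeft TT_p55 15996)) (Nat.shiftLeft (Nat.lor TT_p56 (Nat.shiftLeft TT_p57 15996)) 31992)) (Nat.shiftLeft (Nat.lor (Nat.lor TT_p58 (Nat.shiftLeft TT_p59 15996)) (Nat.shiftLeft (Nat.lor TT_p60 (Nat.shiftLeft TT_p61 15996)) 31992)) 63984)) 127968)) 239940)) 495876)) (Nat.shiftLeft (Nat.lor (Nat.lor (Nat.lor (Nat.lor (Nat.lor TT_p62 (Nat.shiftLeft (Nat.lor TT_p63 (Nat.shiftLeft TT_p64 15996)) 15996)) (Nat.shiftLeft (Nat.lor (Nat.lor TT_p65 (Nat.shiftLeft TT_p66 15996)) (Nat.shiftLeft (Nat.lor TT_p67 (Nat.shiftLeft TT_p68 15996)) 31992)) 47988)) (Nat.shiftLeft (Nat.lor (Nat.lor (Nat.lor TT_p69 (Nat.shiftLeft TT_p70 15996)) (Nat.shiftLeft (Nat.lor TT_p71 (Nat.shiftLeft TT_p72 15996)) 31992))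 (Nat.shiftLeft (Nat.lor (Nat.lor TT_p73 (Nat.shiftLeft TT_p74 15996)) (Nat.shiftLeft (Nat.lor TT_p75 (Nat.shiftLeft TT_p76 15996)) 31992)) 63984)) 111972)) (Nat.shiftLeft (Nat.lor (Nat.lor (Nat.lor (Nat.lor TT_p77 (Nat.shiftLeft TT_p78 15996)) (Nat.shiftLeft (Nat.lor TT_p79 (Nat.shiftLeft TT_p80 15996)) 31992)) (Nat.shiftLeft (Nat.lor (Nat.lor TT_p81 (Nat.shiftLeft TT_p82 15996)) (Nat.shiftLeft (Nat.lor TT_p83 (Nat.shiftLeft TT_p84 15996)) 31992)) 63984)) (Nat.shiftLeft (Nat.lor (Nat.lor (Nat.lor TT_p85 (Nat.shiftLeft TT_p86 15996)) (Nat.shiftLeft (Nat.lor TT_p87 (Nat.shiftLeft TT_p88 15996)) 31992)) (Nat.shiftLeft (Nat.lor (Nat.lor TT_p89 (Nat.shiftLeft TT_p90 15996)) (Nat.shiftLeft (Nat.lor TT_p91 (Nat.shiftLeft TT_p92 15996)) 31992)) 63984)) 127968)) 239940)) (Nat.shiftLeft (Nat.lor (Nat.lor (Nat.lor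 (Nat.lor (Nat.lor TT_p93 (Nat.shiftLeft TT_p94 15996)) (Nat.shiftLeft (Nat.lor TT_p95 (Nat.shiftLeft TT_p96 15996)) 31992)) (Nat.shiftLeft (Nat.lor (Nat.lor TT_p97 (Nat.shiftLeft TT_p98 15996)) (Nat.shiftLeft (Nat.lor TT_p99 (Nat.shiftLeft TT_p100 15996)) 31992)) 63984)) (Nat.shiftLeft (Nat.lor (Nat.lor (Nat.lor TT_p101 (Nat.shiftLeft TT_p102 15996)) (Nat.shiftLeft (Nat.lor TT_p103 (Nat.shiftLeft TT_p104 15996)) 31992)) (Nat.shiftLeft (Nat.lor (Nat.lor TT_p105 (Nat.shiftLeft TT_p106 15996)) (Nat.shiftLeft (Nat.lor TT_p107 (Nat.shiftLeft TT_p108 15996)) 31992)) 63984)) 127968)) (Nat.shiftLeft (Nat.lor (Nat.lor (Nat.lor (Nat.lor TT_p109 (Nat.shiftLeft TT_p110 15996)) (Nat.shiftLeft (Nat.lor TT_p111 (Nat.shiftLeft TT_p112 15996)) 31992)) (Nat.shiftLeft (Nat.lor (Nat.lor TT_p113 (Nat.shiftLeft TT_p114 15996))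 (Nat.shiftLeft (Nat.lor TT_p115 (Nat.shiftLeft TT_p116 15996)) 31992)) 63984)) (Nat.shiftLeft (Nat.lor (Nat.lor (Nat.lor TT_p117 (Nat.shiftLeft TT_p118 15996)) (Nat.shiftLeft (Nat.lor TT_p119 (Nat.shiftLeft TT_p120 15996)) 31992)) (Nat.shiftLeft (Nat.lor (Nat.lor TT_p121 (Nat.shiftLeft TT_p122 15996)) (Nat.shiftLeft (Nat.lor TT_p123 (Nat.shiftLeft TT_p124 15996)) 31992)) 63984)) 127968)) 255936)) 495876)) 991752)) (Nat.shiftLeft (Nat.lor (Nat.lor (Nat.lor (Nat.lor (Nat.lor (Nat.lor TT_p125 (Nat.shiftLeft (Nat.lor TT_p126 (Nat.shiftLeft TT_p127 15996)) 15996)) (Nat.shiftLeft (Nat.lor (Nat.lor TT_p128 (Nat.shiftLeft TT_p129 15996)) (Nat.shiftLeft (Nat.lor TT_p130 (Nat.shiftLeft TT_p131 15996)) 31992)) 47988)) (Nat.shiftLeft (Nat.lor (Nat.lor (Nat.lor TT_p132 (Nat.shiftLeft TT_p133 15996)) (Nat.shiftLeft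 (Nat.lor TT_p134 (Nat.shiftLeft TT_p135 15996)) 31992)) (Nat.shiftLeft (Nat.lor (Nat.lor TT_p136 (Nat.shiftLeft TT_p137 15996)) (Nat.shiftLeft (Nat.lor TT_p138 (Nat.shiftLeft TT_p139 15996)) 31992)) 63984)) 111972)) (Nat.shiftLeft (Nat.lor (Nat.lor (Nat.lor (Nat.lor TT_p140 (Nat.shiftLeft TT_p141 15996)) (Nat.shiftLeft (Nat.lor TT_p142 (Nat.shiftLeft TT_p143 15996)) 31992)) (Nat.shiftLeft (Nat.lor (Nat.lor TT_p144 (Nat.shiftLeft TT_p145 15996)) (Nat.shiftLeft (Nat.lor TT_p146 (Nat.shiftLeft TT_p147 15996)) 31992)) 63984)) (Nat.shiftLeft (Nat.lor (Nat.lor (Nat.lor TT_p148 (Nat.shiftLeft TT_p149 15996)) (Nat.shiftLeft (Nat.lor TT_p150 (Nat.shiftLeft TT_p151 15996)) 31992)) (Nat.shiftLeft (Nat.lor (Nat.lor TT_p152 (Nat.shiftLeft TT_p153 15996)) (Nat.shiftLeft (Nat.lor TT_p154 (Nat.shiftLeft TT_p155 15996))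 31992)) 63984)) 127968)) 239940)) (Nat.shiftLeft (Nat.lor (Nat.lor (Nat.lor (Nat.lor (Nat.lor TT_p156 (Nat.shiftLeft TT_p157 15996)) (Nat.shiftLeft (Nat.lor TT_p158 (Nat.shiftLeft TT_p159 15996)) 31992)) (Nat.shiftLeft (Nat.lor (Nat.lor TT_p160 (Nat.shiftLeft TT_p161 15996)) (Nat.shiftLeft (Nat.lor TT_p162 (Nat.shiftLeft TT_p163 15996)) 31992)) 63984)) (Nat.shiftLeft (Nat.lor (Nat.lor (Nat.lor TT_p164 (Nat.shiftLeft TT_p165 15996)) (Nat.shiftLeft (Nat.lor TT_p166 (Nat.shiftLeft TT_p167 15996)) 31992)) (Nat.shiftLeft (Nat.lor (Nat.lor TT_p168 (Nat.shiftLeft TT_p169 15996)) (Nat.shiftLeft (Nat.lor TT_p170 (Nat.shiftLeft TT_p171 15996)) 31992)) 63984)) 127968)) (Nat.shiftLeft (Nat.lor (Nat.lor (Nat.lor (Nat.lor TT_p172 (Nat.shiftLeft TT_p173 15996)) (Nat.shiftLeft (Nat.lor TT_p174 (Nat.shiftLeft TT_p175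 15996)) 31992)) (Nat.shiftLeft (Nat.lor (Nat.lor TT_p176 (Nat.shiftLeft TT_p177 15996)) (Nat.shiftLeft (Nat.lor TT_p178 (Nat.shiftLeft TT_p179 15996)) 31992)) 63984)) (Nat.shiftLeft (Nat.lor (Nat.lor (Nat.lor TT_p180 (Nat.shiftLeft TT_p181 15996)) (Nat.shiftLeft (Nat.lor TT_p182 (Nat.shiftLeft TT_p183 15996)) 31992)) (Nat.shiftLeft (Nat.lor (Nat.lor TT_p184 (Nat.shiftLeft TT_p185 15996)) (Nat.shiftLeft (Nat.lor TT_p186 (Nat.shiftLeft TT_p187 15996)) 31992)) 63984)) 127968)) 255936)) 495876)) (Nat.shiftLeft (Nat.lor (Nat.lor (Nat.lor (Nat.lor (Nat.lor TT_p188 (Nat.shiftLeft (Nat.lor TT_p189 (Nat.shiftLeft TT_p190 15996)) 15996)) (Nat.shiftLeft (Nat.lor (Nat.lor TT_p191 (Nat.shiftLeft TT_p192 15996)) (Nat.shiftLeft (Nat.lor TT_p193 (Nat.shiftLeft TT_p194 15996)) 31992)) 47988)) (Nat.shiftLeft (Nat.lor (Nat.lor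 (Nat.lor TT_p195 (Nat.shiftLeft TT_p196 15996)) (Nat.shiftLeft (Nat.lor TT_p197 (Nat.shiftLeft TT_p198 15996)) 31992)) (Nat.shiftLeft (Nat.lor (Nat.lor TT_p199 (Nat.shiftLeft TT_p200 15996)) (Nat.shiftLeft (Nat.lor TT_p201 (Nat.shiftLeft TT_p202 15996)) 31992)) 63984)) 111972)) (Nat.shiftLeft (Nat.lor (Nat.lor (Nat.lor (Nat.lor TT_p203 (Nat.shiftLeft TT_p204 15996)) (Nat.shiftLeft (Nat.lor TT_p205 (Nat.shiftLeft TT_p206 15996)) 31992)) (Nat.shiftLeft (Nat.lor (Nat.lor TT_p207 (Nat.shiftLeft TT_p208 15996)) (Nat.shiftLeft (Nat.lor TT_p209 (Nat.shiftLeft TT_p210 15996)) 31992)) 63984)) (Nat.shiftLeft (Nat.lor (Nat.lor (Nat.lor TT_p211 (Nat.shiftLeft TT_p212 15996)) (Nat.shiftLeft (Nat.lor TT_p213 (Nat.shiftLeft TT_p214 15996)) 31992)) (Nat.shiftLeft (Nat.lor (Nat.lor TT_p215 (Nat.shiftLeft TT_p216 15996))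 (Nat.shiftLeft (Nat.lor TT_p217 (Nat.shiftLeft TT_p218 15996)) 31992)) 63984)) 127968)) 239940)) (Nat.shiftLeft (Nat.lor (Nat.lor (Nat.lor (Nat.lor (Nat.lor TT_p219 (Nat.shiftLeft TT_p220 15996)) (Nat.shiftLeft (Nat.lor TT_p221 (Nat.shiftLeft TT_p222 15996)) 31992)) (Nat.shiftLeft (Nat.lor (Nat.lor TT_p223 (Nat.shiftLeft TT_p224 15996)) (Nat.shiftLeft (Nat.lor TT_p225 (Nat.shiftLeft TT_p226 15996)) 31992)) 63984)) (Nat.shiftLeft (Nat.lor (Nat.lor (Nat.lor TT_p227 (Nat.shiftLeft TT_p228 15996)) (Nat.shiftLeft (Nat.lor TT_p229 (Nat.shiftLeft TT_p230 15996)) 31992)) (Nat.shiftLeft (Nat.lor (Nat.lor TT_p231 (Nat.shiftLeft TT_p232 15996)) (Nat.shiftLeft (Nat.lor TT_p233 (Nat.shiftLeft TT_p234 15996)) 31992)) 63984)) 127968)) (Nat.shiftLeft (Nat.lor (Nat.lor (Nat.lor (Nat.lor TT_p235 (Nat.shiftLeft TT_p236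 15996)) (Nat.shiftLeft (Nat.lor TT_p237 (Nat.shiftLeft TT_p238 15996)) 31992)) (Nat.shiftLeft (Nat.lor (Nat.lor TT_p239 (Nat.shiftLeft TT_p240 15996)) (Nat.shiftLeft (Nat.lor TT_p241 (Nat.shiftLeft TT_p242 15996)) 31992)) 63984)) (Nat.shiftLeft (Nat.lor (Nat.lor (Nat.lor TT_p243 (Nat.shiftLeft TT_p244 15996)) (Nat.shiftLeft (Nat.lor TT_p245 (Nat.shiftLeft TT_p246 15996)) 31992)) (Nat.shiftLeft (Nat.lor (Nat.lor TT_p247 (Nat.shiftLeft TT_p248 15996)) (Nat.shiftLeft (Nat.lor TT_p249 (Nat.shiftLeft TT_p250 15996)) 31992)) 63984)) 127968)) 255936)) 495876)) 1007748)) 1999500))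
noncomputable def TT_M1 : Nat := Nat.sub (Nat.shiftLeft 1 393216) 1
noncomputable def TT_M2 : Nat := Nat.sub (Nat.shiftLeft 1 768) 1
noncomputable def TT (p : Nat) : Nat :=
  force (Nat.shiftRight p 15) fun b1 => force (Nat.land (Nat.shiftRight p 6) 511) fun b2 =>
    Nat.land (Nat.shiftRight (Nat.land (Nat.shiftRight (Nat.land (Nat.shiftRight TT_T (Nat.mul b1 393216)) TT_M1) (Nat.mul b2 768)) TT_M2) (Nat.mul (Nat.land p 63) 12)) 4095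

noncomputable def F (g p : Nat) : Nat := TT (Nat.add (Nat.mul g 3510) p)

def progL : List (List Nat) := [
  [],
  [],
  [0, 1, 0, 0, 1, 0, 1, 0, 0, 0, 0, 0, 1, 1, 0, 1, 1, 1, 1, 1, 0, 1, 0, 0, 1, 0, 1, 0, 0, 1, 0, 1, 0, 1, 0],
  [1, 0, 0, 0, 0, 0, 1, 0, 0, 0, 0, 1, 1, 0, 1, 1, 1, 1, 1, 1, 0, 1, 0, 0, 0, 1, 1, 1, 1, 0, 1, 0, 1, 0, 0, 1],
  [2, 2, 3, 3, 2, 2, 2, 2, 3, 2, 3, 3, 2, 2, 2, 3, 2, 2, 2, 3, 2, 3, 2, 3, 2, 2, 3, 2, 3, 2, 2, 2, 3, 3, 2, 2, 3],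
  [3, 3, 3, 2, 3, 3, 3, 3, 2, 3, 3, 2, 3, 3, 2, 3, 2, 3, 2, 2, 3, 2, 3, 2, 3, 2, 3, 2, 2, 3, 3, 2, 2],
  [5, 4, 4, 4, 4, 5, 4, 5, 5, 4, 4, 4, 5, 4, 5, 5, 4, 5, 4, 4, 5, 4, 5, 5, 4, 4, 4, 4, 4, 5, 4, 5, 4, 4],
  [5, 4, 4, 5, 4, 4, 5, 5, 4, 5, 5, 4, 4, 4, 4, 4, 4, 5, 4, 5, 4, 5, 4, 5, 4, 5, 4, 5, 4, 4, 4, 4, 5, 4, 5],
  [4, 4, 5, 4, 5, 4, 5, 4, 5, 5, 5, 5, 4, 5, 4, 5, 4, 5, 5, 5, 5, 5, 5, 4, 5, 4, 4, 5, 4, 4, 4, 4, 4, 4, 4],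
  [5, 4, 4, 4, 5, 4, 4, 5, 5, 5, 4, 5, 5, 4, 5, 5, 5, 5, 4, 4, 4, 5, 4, 4, 4, 4, 5, 5, 5, 4, 4, 5, 4, 5, 4, 4, 5],
  [8, 8, 9, 8, 8, 6, 9, 9, 6, 8, 6, 6, 8, 6, 8, 7, 8, 6, 9, 8, 9, 9, 8, 8, 9, 6, 6, 7],
  [9, 8, 8, 8, 9, 7, 8, 6, 7, 9, 7, 8, 7, 8, 6, 7, 7, 6, 7, 6, 7, 9, 7, 7, 6, 9, 6, 7],
  [6, 7, 8, 8, 6, 7, 6, 8, 7, 8, 8, 8, 9, 6, 9, 8, 6, 8, 7, 8, 7, 8, 7, 8, 8, 9],
  [1, 0, 1, 1, 1, 1, 1, 1, 0, 1, 0, 0, 1, 1, 0, 0, 0, 0, 1, 0, 0, 0, 1, 1],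
  [13, 13, 13, 13, 13, 13, 13, 13, 13, 13, 13, 13, 13, 13, 13, 13, 13, 13, 13, 13, 13, 13, 13, 13, 13, 13, 13, 13, 13],
  [1, 14, 1, 13],
  [1, 0, 1, 1, 1, 0, 1, 1, 1, 0, 0, 0, 0, 0, 1, 1, 1, 1, 1, 0, 0, 0, 1, 0],
  [16, 16, 16, 16, 16, 16, 16, 16, 16, 16, 16, 16, 16, 16, 16, 16, 16, 16, 16, 16, 16, 16, 16, 16, 16, 16, 16, 16, 16],
  [1, 17, 1, 16],
  [13, 15],
  [16, 18],
  [19, 19, 20, 20, 19, 19, 19, 20, 20, 20, 19, 20, 19, 19, 20, 19, 19, 20, 19, 19, 19, 20, 19, 20, 20, 19, 19, 20, 20, 20, 20, 19, 19, 20, 19, 20, 19],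
  [19, 19, 19, 20, 19, 19, 19, 19, 20, 20, 20, 19, 20, 20, 20, 20, 19, 19, 19, 19, 20, 20, 19, 19, 19, 20, 20, 20, 19, 19, 20, 20, 20, 20, 20, 19],
  [21, 21, 21, 21, 22, 22, 21, 22, 22, 22, 22, 22, 21, 21, 22, 21, 21, 21, 21, 21, 22, 21, 21, 21, 21, 21, 21, 21, 21, 21, 22, 21, 21],
  [21, 22, 22, 22, 22, 21, 22, 21, 22, 21, 22, 22, 22, 21, 21, 21, 22, 21, 22, 21, 22, 21, 22, 22, 22, 22, 21, 22, 22, 21, 21, 22, 22],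
  [22, 21, 21, 22, 22, 22, 22, 22, 21, 21, 22, 22, 21, 22, 21, 21, 22, 21, 21, 22, 21, 21, 21, 22, 22, 21, 21, 22, 21],
  [21, 22, 22, 21, 21, 22, 21, 22, 21, 22, 21, 21, 21, 21, 22, 21, 22, 22, 22, 21, 22, 21, 21, 22, 22, 21, 22, 21, 21, 21, 22, 21, 21],
  [21, 21, 21, 21, 21, 22, 21, 22, 21, 22, 21, 21, 22, 21, 22, 21, 21, 21, 21, 21, 21, 22, 21, 22, 22, 21, 21, 22, 22, 22, 22, 22, 22, 21],
  [22, 21, 21, 22, 21, 22, 22, 21, 21, 21, 22, 22, 21, 21, 22, 21, 22, 22, 21, 22, 21, 21, 22, 21, 22, 22, 22, 22, 22, 22, 22, 21, 21, 21],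
  [21, 21, 22, 22, 22, 22, 22, 22, 21, 21, 22, 22, 21, 22, 21, 22, 22, 21, 22, 22, 21, 21, 21, 21, 22, 22, 21, 22, 21, 22, 22, 22],
  [24, 25, 26, 25, 25, 28, 28, 23, 27, 28, 29, 29, 27, 29, 29, 25, 28, 23, 27, 25, 28, 25, 29, 24, 27, 24, 27],
  [24, 24, 29, 25, 23, 24, 26, 27, 24, 23, 29, 26, 29, 28, 25, 27, 23, 27, 26, 23, 23, 28, 23, 29, 23, 24, 29],
  [24, 24, 28, 23, 23, 27, 23, 23, 28, 28, 25, 26, 27, 29, 25, 28, 29, 25, 24, 28, 25, 26, 27, 23, 26, 24],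
  [24, 27, 29, 23, 28, 24, 28, 23, 26, 24, 29, 29, 23, 26, 26, 26, 24, 28, 24, 29, 24, 29, 23, 27, 29, 28, 25],
  [1, 0, 1, 0, 0, 0, 1, 1, 1, 1, 1, 1, 1, 0, 0, 0, 1, 0, 0, 1, 1, 0, 1, 1],
  [0, 1, 0, 0, 0, 1, 1, 0, 1, 1, 1, 1, 1, 1, 0, 1, 1, 0, 1, 0, 1, 1, 1, 1],
  [0, 0, 1, 0, 1, 0, 0, 0, 1, 0, 0, 1, 1, 0, 1, 1, 1, 0, 1, 0, 0, 1, 0, 0],
  [1, 0, 1, 1, 1, 0, 1, 1, 1, 1, 1, 0, 1, 0, 0, 1, 0, 1, 1, 0, 1, 0, 1, 1],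
  [0, 1, 0, 0, 0, 0, 0, 1, 1, 0, 0, 1, 1, 1, 0, 0, 1, 1, 0, 0, 0, 1, 1, 1],
  [0, 1, 1, 1, 0, 1, 1, 1, 0, 1, 0, 0, 0, 1, 0, 0, 0, 1, 1, 0, 0, 1, 1, 1],
  [0, 1, 0, 0, 0, 0, 1, 1, 1, 1, 0, 1, 0, 0, 1, 0, 0, 0, 1, 1, 1, 1, 1, 1],
  [1, 0, 0, 1, 1, 0, 1, 1, 1, 1, 1, 1, 1, 0, 1, 1, 1, 0, 0, 1, 0, 0, 0, 1],
  [34, 34, 34, 34, 34, 34, 34, 34, 34, 34, 34, 34],
  [35, 35, 35, 35, 35, 35, 35, 35, 35, 35, 35, 35, 35, 35, 35],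
  [36, 36, 36, 36, 36, 36],
  [37, 37, 37, 37, 37, 37, 37, 37, 37, 37, 37, 37, 37, 37, 37],
  [38, 38],
  [39, 39, 39, 39, 39, 39, 39, 39, 39, 39, 39, 39, 39, 39, 39],
  [40, 40, 40, 40, 40, 40, 40, 40, 40, 40, 40, 40, 40, 40, 40],
  [41, 41, 41, 41, 41, 41, 41, 41, 41, 41, 41],
  [12, 10, 6, 7, 6, 9, 5, 5, 5, 4, 4, 5, 4, 4, 5, 4, 5],
  [11, 7, 7, 7, 5, 5, 4, 5, 4, 4, 4, 5, 5, 5, 4],
  [12, 10, 9, 9, 6, 7, 5, 5, 5, 5, 4, 4, 5, 4, 4],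
  [12, 10, 6, 8, 6, 7, 6, 4, 4, 5, 5, 5, 4, 5, 5, 5, 4],
  [12, 6, 7, 9, 7, 8, 4, 5, 4, 5, 5, 4, 5, 5, 2, 2, 2, 3, 2, 3, 2, 2, 3, 3, 3],
  [11, 12, 7, 6, 7, 5, 4, 4, 2, 2, 2, 3, 2, 3, 3, 3, 2, 2, 3],
  [10, 12, 7, 9, 8, 9, 6, 4, 4, 5, 5, 5, 5, 4, 4, 4, 4, 2, 2, 3, 2, 2, 3, 3, 3, 2, 2, 3],
  [10, 10, 11, 8, 7, 9, 6, 5, 5, 4, 5, 5, 4, 5, 5, 2, 3, 2, 3, 3, 3, 2, 2, 2, 3, 3, 2, 2],
  [12, 11, 6, 6, 6, 8, 5, 4, 4, 5, 4, 5, 5, 4, 4, 4, 5, 5, 4, 4, 3, 2, 2, 3, 2, 3, 2, 2, 3],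
  [10, 10, 10, 11, 8, 6, 9, 6, 8, 5, 5, 5, 5, 4, 4, 5, 4, 4, 5, 4, 2, 3, 2, 3, 3, 3, 3, 3, 2, 3, 3, 2, 2],
  [11, 6, 7, 8, 9, 8, 4, 4, 5, 5, 4, 4, 4, 5, 5, 5, 4, 3, 3, 3, 3, 2, 2, 3, 3, 2, 1, 0, 0, 1, 0, 0, 1],
  [10, 6, 7, 8, 6, 4, 5, 5, 5, 4, 5, 5, 4, 2, 2, 2, 3, 2, 3, 2, 3, 3, 3, 0, 0, 0, 1, 0, 0, 0, 0, 0, 1],
  [12, 7, 7, 7, 6, 6, 5, 4, 5, 4, 4, 5, 4, 4, 4, 5, 3, 2, 2, 3, 2, 2, 3, 2, 2, 0, 1, 0, 0, 0, 0, 0, 1, 0, 0, 0, 1, 0, 0, 0],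
  [10, 10, 11, 9, 8, 6, 4, 5, 5, 5, 5, 4, 5, 5, 4, 2, 2, 3, 3, 2, 2, 2, 2, 3, 3, 0, 0, 0, 0, 1, 0, 0, 0, 1, 0],
  [10, 11, 12, 6, 8, 6, 8, 4, 4, 5, 5, 5, 5, 4, 4, 4, 2, 2, 3, 3, 3, 3, 2, 3, 3, 2, 3, 2, 0, 0, 0, 0, 1, 0, 0, 1, 0, 0, 0, 0, 1, 0, 0, 0, 0, 0, 0, 0],
  [10, 11, 7, 7, 7, 4, 5, 4, 5, 4, 4, 4, 4, 3, 2, 2, 3, 2, 2, 3, 3, 2, 3, 2, 2, 1, 0, 0, 0, 0, 0, 0, 0, 0, 0, 0, 1, 0, 0, 1, 0, 0, 1],
  [10, 12, 8, 6, 6, 5, 5, 5, 4, 4, 4, 5, 4, 2, 2, 3, 3, 2, 3, 3, 0, 0, 0, 0, 0, 1, 0, 0, 1, 0, 1, 0, 0, 0, 0, 1],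
  [10, 10, 12, 6, 7, 8, 6, 5, 4, 4, 4, 4, 5, 5, 4, 5, 5, 2, 3, 3, 3, 3, 2, 2, 2, 0, 0, 0, 0, 1, 0, 0, 0, 1, 0, 0, 1, 0, 0, 0, 0],
  [50],
  [51, 52]]
def prog (g : Nat) : List Nat := progL.getD g []

def prog2L : List (List Nat) := [
  [],
  [],
  [],
  [],
  [],
  [],
  [],
  [],
  [],
  [73, 72, 76, 75, 73, 70, 77, 77, 72, 77, 77, 73, 70, 73, 72, 72, 72, 75, 77, 76, 70, 71, 70, 71, 73, 73, 72, 71, 75, 72, 72, 77, 78, 72, 73, 76, 70, 75, 74, 77],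
  [79],
  [71, 70, 75, 77, 71, 78, 70, 70, 75, 70, 76, 71, 71, 74, 71, 74, 75, 74, 76, 76, 75, 77, 76, 78],
  [81, 81, 81],
  [70, 76, 73, 71, 70, 76, 70, 76, 70, 74, 77, 76, 75, 74, 77, 74, 73, 74, 73, 71, 73, 72, 70, 73],
  [83, 83],
  [72, 78, 77, 71, 78, 78, 71, 74, 75, 78, 73, 76, 71, 77, 71, 70, 77, 75, 74, 77, 74, 78, 74, 70],
  [85, 85, 85],
  [74, 71, 74, 77, 78, 75, 75, 76, 76, 70, 73, 74, 73, 74, 78, 71, 70, 78, 71, 70, 70, 77, 76, 71],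
  [87, 87, 87],
  [71, 75, 75, 76, 75, 74, 77, 76, 73, 76, 70, 71, 71, 75, 73, 76, 71, 73, 70, 72, 75, 71, 71, 75],
  [89, 89, 89, 89, 89],
  [82, 84, 86, 84, 88, 90, 88, 84, 86, 84, 82]]
def prog2 (g : Nat) : List Nat := prog2L.getD (g - 70) []

noncomputable def dL0_pt_T : Nat := (Nat.lor dL0_pt_p0 (Nat.shiftLeft (Nat.lor dL0_pt_p1 (Nat.shiftLeft dL0_pt_p2 15996)) 15996))
noncomputable def dL0_pt_M1 : Nat := Nat.sub (Nat.shiftLeft 1 49152) 1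
noncomputable def dL0_pt_M2 : Nat := Nat.sub (Nat.shiftLeft 1 384) 1
noncomputable def dL0_pt (p : Nat) : Nat :=
  force (Nat.shiftRight p 12) fun b1 => force (Nat.land (Nat.shiftRight p 5) 127) fun b2 =>
    Nat.land (Nat.shiftRight (Nat.land (Nat.shiftRight (Nat.land (Nat.shiftRight dL0_pt_T (Nat.mul b1 49152)) dL0_pt_M1) (Nat.mul b2 384)) dL0_pt_M2) (Nat.mul (Nat.land p 31) 12)) 4095

noncomputable def dL0_pi_T : Nat := (Nat.lor dL0_pi_p0 (Nat.shiftLeft (Nat.lor dL0_pi_p1 (Nat.shiftLeft dL0_pi_p2 15996)) 15996))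
noncomputable def dL0_pi_M1 : Nat := Nat.sub (Nat.shiftLeft 1 49152) 1
noncomputable def dL0_pi_M2 : Nat := Nat.sub (Nat.shiftLeft 1 384) 1
noncomputable def dL0_pi (p : Nat) : Nat :=
  force (Nat.shiftRight p 12) fun b1 => force (Nat.land (Nat.shiftRight p 5) 127) fun b2 =>
    Nat.land (Nat.shiftRight (Nat.land (Nat.shiftRight (Nat.land (Nat.shiftRight dL0_pi_T (Nat.mul b1 49152)) dL0_pi_M1) (Nat.mul b2 384)) dL0_pi_M2) (Nat.mul (Nat.land p 31) 12)) 4095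

noncomputable def dL0_tr_T : Nat := (Nat.lor dL0_tr_p0 (Nat.shiftLeft (Nat.lor dL0_tr_p1 (Nat.shiftLeft dL0_tr_p2 15990)) 15990))
noncomputable def dL0_tr_M1 : Nat := Nat.sub (Nat.shiftLeft 1 53248) 1
noncomputable def dL0_tr_M2 : Nat := Nat.sub (Nat.shiftLeft 1 416) 1
noncomputable def dL0_tr (p : Nat) : Nat :=
  force (Nat.shiftRight p 12) fun b1 => force (Nat.land (Nat.shiftRight p 5) 127) fun b2 =>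
    Nat.land (Nat.shiftRight (Nat.land (Nat.shiftRight (Nat.land (Nat.shiftRight dL0_tr_T (Nat.mul b1 53248)) dL0_tr_M1) (Nat.mul b2 416)) dL0_tr_M2) (Nat.mul (Nat.land p 31) 13)) 8191

noncomputable def dL0 : LevD := ⟨0, 3510, 2, 0, dL0_pt, dL0_pi, dL0_tr⟩

noncomputable def dL1_pt_T : Nat := (Nat.lor dL1_pt_p0 (Nat.shiftLeft (Nat.lor dL1_pt_p1 (Nat.shiftLeft dL1_pt_p2 15996)) 15996))
noncomputable def dL1_pt_M1 : Nat := Nat.sub (Nat.shiftLeft 1 49152) 1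
noncomputable def dL1_pt_M2 : Nat := Nat.sub (Nat.shiftLeft 1 384) 1
noncomputable def dL1_pt (p : Nat) : Nat :=
  force (Nat.shiftRight p 12) fun b1 => force (Nat.land (Nat.shiftRight p 5) 127) fun b2 =>
    Nat.land (Nat.shiftRight (Nat.land (Nat.shiftRight (Nat.land (Nat.shiftRight dL1_pt_T (Nat.mul b1 49152)) dL1_pt_M1) (Nat.mul b2 384)) dL1_pt_M2) (Nat.mul (Nat.land p 31) 12)) 4095

noncomputable def dL1_pi_T : Nat := (Nat.lor dL1_pi_p0 (Nat.shiftLeft (Nat.lor dL1_pi_p1 (Nat.shiftLeft dL1_pi_p2 15996)) 15996))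
noncomputable def dL1_pi_M1 : Nat := Nat.sub (Nat.shiftLeft 1 49152) 1
noncomputable def dL1_pi_M2 : Nat := Nat.sub (Nat.shiftLeft 1 384) 1
noncomputable def dL1_pi (p : Nat) : Nat :=
  force (Nat.shiftRight p 12) fun b1 => force (Nat.land (Nat.shiftRight p 5) 127) fun b2 =>
    Nat.land (Nat.shiftRight (Nat.land (Nat.shiftRight (Nat.land (Nat.shiftRight dL1_pi_T (Nat.mul b1 49152)) dL1_pi_M1) (Nat.mul b2 384)) dL1_pi_M2) (Nat.mul (Nat.land p 31) 12)) 4095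

noncomputable def dL1_tr_T : Nat := (Nat.lor dL1_tr_p0 (Nat.shiftLeft (Nat.lor dL1_tr_p1 (Nat.shiftLeft dL1_tr_p2 15990)) 15990))
noncomputable def dL1_tr_M1 : Nat := Nat.sub (Nat.shiftLeft 1 53248) 1
noncomputable def dL1_tr_M2 : Nat := Nat.sub (Nat.shiftLeft 1 416) 1
noncomputable def dL1_tr (p : Nat) : Nat :=
  force (Nat.shiftRight p 12) fun b1 => force (Nat.land (Nat.shiftRight p 5) 127) fun b2 =>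
    Nat.land (Nat.shiftRight (Nat.land (Nat.shiftRight (Nat.land (Nat.shiftRight dL1_tr_T (Nat.mul b1 53248)) dL1_tr_M1) (Nat.mul b2 416)) dL1_tr_M2) (Nat.mul (Nat.land p 31) 13)) 8191

noncomputable def dL1 : LevD := ⟨1, 2816, 2, 2, dL1_pt, dL1_pi, dL1_tr⟩

noncomputable def dL2_pt_T : Nat := (Nat.lor dL2_pt_p0 (Nat.shiftLeft dL2_pt_p1 15996))
noncomputable def dL2_pt_M1 : Nat := Nat.sub (Nat.shiftLeft 1 49152) 1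
noncomputable def dL2_pt_M2 : Nat := Nat.sub (Nat.shiftLeft 1 384) 1
noncomputable def dL2_pt (p : Nat) : Nat :=
  force (Nat.shiftRight p 12) fun b1 => force (Nat.land (Nat.shiftRight p 5) 127) fun b2 =>
    Nat.land (Nat.shiftRight (Nat.land (Nat.shiftRight (Nat.land (Nat.shiftRight dL2_pt_T (Nat.mul b1 49152)) dL2_pt_M1) (Nat.mul b2 384)) dL2_pt_M2) (Nat.mul (Nat.land p 31) 12)) 4095

noncomputable def dL2_pi_T : Nat := (Nat.lor dL2_pi_p0 (Nat.shiftLeft (Nat.lor dL2_pi_p1 (Nat.shiftLeft dL2_pi_p2 15994)) 15994))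
noncomputable def dL2_pi_M1 : Nat := Nat.sub (Nat.shiftLeft 1 45056) 1
noncomputable def dL2_pi_M2 : Nat := Nat.sub (Nat.shiftLeft 1 352) 1
noncomputable def dL2_pi (p : Nat) : Nat :=
  force (Nat.shiftRight p 12) fun b1 => force (Nat.land (Nat.shiftRight p 5) 127) fun b2 =>
    Nat.land (Nat.shiftRight (Nat.land (Nat.shiftRight (Nat.land (Nat.shiftRight dL2_pi_T (Nat.mul b1 45056)) dL2_pi_M1) (Nat.mul b2 352)) dL2_pi_M2) (Nat.mul (Nat.land p 31) 11)) 2047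

noncomputable def dL2_tr_T : Nat := (Nat.lor dL2_tr_p0 (Nat.shiftLeft dL2_tr_p1 15996))
noncomputable def dL2_tr_M1 : Nat := Nat.sub (Nat.shiftLeft 1 49152) 1
noncomputable def dL2_tr_M2 : Nat := Nat.sub (Nat.shiftLeft 1 384) 1
noncomputable def dL2_tr (p : Nat) : Nat :=
  force (Nat.shiftRight p 12) fun b1 => force (Nat.land (Nat.shiftRight p 5) 127) fun b2 =>
    Nat.land (Nat.shiftRight (Nat.land (Nat.shiftRight (Nat.land (Nat.shiftRight dL2_tr_T (Nat.mul b1 49152)) dL2_tr_M1) (Nat.mul b2 384)) dL2_tr_M2) (Nat.mul (Nat.land p 31) 12)) 4095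

noncomputable def dL2 : LevD := ⟨192, 1680, 2, 4, dL2_pt, dL2_pi, dL2_tr⟩

noncomputable def dL3_pt_T : Nat := dL3_pt_p0
noncomputable def dL3_pt_M1 : Nat := Nat.sub (Nat.shiftLeft 1 49152) 1
noncomputable def dL3_pt_M2 : Nat := Nat.sub (Nat.shiftLeft 1 384) 1
noncomputable def dL3_pt (p : Nat) : Nat :=
  force (Nat.shiftRight p 12) fun b1 => force (Nat.land (Nat.shiftRight p 5) 127) fun b2 =>
    Nat.land (Nat.shiftRight (Nat.land (Nat.shiftRight (Nat.land (Nat.shiftRight dL3_pt_T (Nat.mul b1 49152)) dL3_pt_M1) (Nat.mul b2 384)) dL3_pt_M2) (Nat.mul (Nat.land p 31) 12)) 4095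

noncomputable def dL3_pi_T : Nat := (Nat.lor dL3_pi_p0 (Nat.shiftLeft dL3_pi_p1 16000))
noncomputable def dL3_pi_M1 : Nat := Nat.sub (Nat.shiftLeft 1 32768) 1
noncomputable def dL3_pi_M2 : Nat := Nat.sub (Nat.shiftLeft 1 256) 1
noncomputable def dL3_pi (p : Nat) : Nat :=
  force (Nat.shiftRight p 12) fun b1 => force (Nat.land (Nat.shiftRight p 5) 127) fun b2 =>
    Nat.land (Nat.shiftRight (Nat.land (Nat.shiftRight (Nat.land (Nat.shiftRight dL3_pi_T (Nat.mul b1 32768)) dL3_pi_M1) (Nat.mul b2 256)) dL3_pi_M2) (Nat.mul (Nat.land p 31) 8)) 255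

noncomputable def dL3_tr_T : Nat := dL3_tr_p0
noncomputable def dL3_tr_M1 : Nat := Nat.sub (Nat.shiftLeft 1 40960) 1
noncomputable def dL3_tr_M2 : Nat := Nat.sub (Nat.shiftLeft 1 320) 1
noncomputable def dL3_tr (p : Nat) : Nat :=
  force (Nat.shiftRight p 12) fun b1 => force (Nat.land (Nat.shiftRight p 5) 127) fun b2 =>
    Nat.land (Nat.shiftRight (Nat.land (Nat.shiftRight (Nat.land (Nat.shiftRight dL3_tr_T (Nat.mul b1 40960)) dL3_tr_M1) (Nat.mul b2 320)) dL3_tr_M2) (Nat.mul (Nat.land p 31) 10)) 1023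

noncomputable def dL3 : LevD := ⟨54, 243, 4, 6, dL3_pt, dL3_pi, dL3_tr⟩

noncomputable def dL4_pt_T : Nat := dL4_pt_p0
noncomputable def dL4_pt_M1 : Nat := Nat.sub (Nat.shiftLeft 1 49152) 1
noncomputable def dL4_pt_M2 : Nat := Nat.sub (Nat.shiftLeft 1 384) 1
noncomputable def dL4_pt (p : Nat) : Nat :=
  force (Nat.shiftRight p 12) fun b1 => force (Nat.land (Nat.shiftRight p 5) 127) fun b2 =>
    Nat.land (Nat.shiftRight (Nat.land (Nat.shiftRight (Nat.land (Nat.shiftRight dL4_pt_T (Nat.mul b1 49152)) dL4_pt_M1) (Nat.mul b2 384)) dL4_pt_M2) (Nat.mul (Nat.land p 31) 12)) 4095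

noncomputable def dL4_pi_T : Nat := (Nat.lor dL4_pi_p0 (Nat.shiftLeft dL4_pi_p1 16000))
noncomputable def dL4_pi_M1 : Nat := Nat.sub (Nat.shiftLeft 1 20480) 1
noncomputable def dL4_pi_M2 : Nat := Nat.sub (Nat.shiftLeft 1 160) 1
noncomputable def dL4_pi (p : Nat) : Nat :=
  force (Nat.shiftRight p 12) fun b1 => force (Nat.land (Nat.shiftRight p 5) 127) fun b2 =>
    Nat.land (Nat.shiftRight (Nat.land (Nat.shiftRight (Nat.land (Nat.shiftRight dL4_pi_T (Nat.mul b1 20480)) dL4_pi_M1) (Nat.mul b2 160)) dL4_pi_M2) (Nat.mul (Nat.land p 31) 5)) 31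

noncomputable def dL4_tr_T : Nat := dL4_tr_p0
noncomputable def dL4_tr_M1 : Nat := Nat.sub (Nat.shiftLeft 1 20480) 1
noncomputable def dL4_tr_M2 : Nat := Nat.sub (Nat.shiftLeft 1 160) 1
noncomputable def dL4_tr (p : Nat) : Nat :=
  force (Nat.shiftRight p 12) fun b1 => force (Nat.land (Nat.shiftRight p 5) 127) fun b2 =>
    Nat.land (Nat.shiftRight (Nat.land (Nat.shiftRight (Nat.land (Nat.shiftRight dL4_tr_T (Nat.mul b1 20480)) dL4_tr_M1) (Nat.mul b2 160)) dL4_tr_M2) (Nat.mul (Nat.land p 31) 5)) 31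

noncomputable def dL4 : LevD := ⟨8, 16, 3, 10, dL4_pt, dL4_pi, dL4_tr⟩

noncomputable def cL0_pt_T : Nat := (Nat.lor cL0_pt_p0 (Nat.shiftLeft (Nat.lor cL0_pt_p1 (Nat.shiftLeft cL0_pt_p2 15996)) 15996))
noncomputable def cL0_pt_M1 : Nat := Nat.sub (Nat.shiftLeft 1 49152) 1
noncomputable def cL0_pt_M2 : Nat := Nat.sub (Nat.shiftLeft 1 384) 1
noncomputable def cL0_pt (p : Nat) : Nat :=
  force (Nat.shiftRight p 12) fun b1 => force (Nat.land (Nat.shiftRight p 5) 127) fun b2 =>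
    Nat.land (Nat.shiftRight (Nat.land (Nat.shiftRight (Nat.land (Nat.shiftRight cL0_pt_T (Nat.mul b1 49152)) cL0_pt_M1) (Nat.mul b2 384)) cL0_pt_M2) (Nat.mul (Nat.land p 31) 12)) 4095

noncomputable def cL0_pi_T : Nat := (Nat.lor cL0_pi_p0 (Nat.shiftLeft (Nat.lor cL0_pi_p1 (Nat.shiftLeft cL0_pi_p2 15996)) 15996))
noncomputable def cL0_pi_M1 : Nat := Nat.sub (Nat.shiftLeft 1 49152) 1
noncomputable def cL0_pi_M2 : Nat := Nat.sub (Nat.shiftLeft 1 384) 1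
noncomputable def cL0_pi (p : Nat) : Nat :=
  force (Nat.shiftRight p 12) fun b1 => force (Nat.land (Nat.shiftRight p 5) 127) fun b2 =>
    Nat.land (Nat.shiftRight (Nat.land (Nat.shiftRight (Nat.land (Nat.shiftRight cL0_pi_T (Nat.mul b1 49152)) cL0_pi_M1) (Nat.mul b2 384)) cL0_pi_M2) (Nat.mul (Nat.land p 31) 12)) 4095

noncomputable def cL0_tr_T : Nat := (Nat.lor cL0_tr_p0 (Nat.shiftLeft (Nat.lor cL0_tr_p1 (Nat.shiftLeft cL0_tr_p2 15990)) 15990))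
noncomputable def cL0_tr_M1 : Nat := Nat.sub (Nat.shiftLeft 1 53248) 1
noncomputable def cL0_tr_M2 : Nat := Nat.sub (Nat.shiftLeft 1 416) 1
noncomputable def cL0_tr (p : Nat) : Nat :=
  force (Nat.shiftRight p 12) fun b1 => force (Nat.land (Nat.shiftRight p 5) 127) fun b2 =>
    Nat.land (Nat.shiftRight (Nat.land (Nat.shiftRight (Nat.land (Nat.shiftRight cL0_tr_T (Nat.mul b1 53248)) cL0_tr_M1) (Nat.mul b2 416)) cL0_tr_M2) (Nat.mul (Nat.land p 31) 13)) 8191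

noncomputable def cL0 : LevD := ⟨0, 2816, 2, 19, cL0_pt, cL0_pi, cL0_tr⟩

noncomputable def cL1_pt_T : Nat := (Nat.lor cL1_pt_p0 (Nat.shiftLeft cL1_pt_p1 15996))
noncomputable def cL1_pt_M1 : Nat := Nat.sub (Nat.shiftLeft 1 49152) 1
noncomputable def cL1_pt_M2 : Nat := Nat.sub (Nat.shiftLeft 1 384) 1
noncomputable def cL1_pt (p : Nat) : Nat :=
  force (Nat.shiftRight p 12) fun b1 => force (Nat.land (Nat.shiftRight p 5) 127) fun b2 =>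
    Nat.land (Nat.shiftRight (Nat.land (Nat.shiftRight (Nat.land (Nat.shiftRight cL1_pt_T (Nat.mul b1 49152)) cL1_pt_M1) (Nat.mul b2 384)) cL1_pt_M2) (Nat.mul (Nat.land p 31) 12)) 4095

noncomputable def cL1_pi_T : Nat := (Nat.lor cL1_pi_p0 (Nat.shiftLeft (Nat.lor cL1_pi_p1 (Nat.shiftLeft cL1_pi_p2 15994)) 15994))
noncomputable def cL1_pi_M1 : Nat := Nat.sub (Nat.shiftLeft 1 45056) 1
noncomputable def cL1_pi_M2 : Nat := Nat.sub (Nat.shiftLeft 1 352) 1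
noncomputable def cL1_pi (p : Nat) : Nat :=
  force (Nat.shiftRight p 12) fun b1 => force (Nat.land (Nat.shiftRight p 5) 127) fun b2 =>
    Nat.land (Nat.shiftRight (Nat.land (Nat.shiftRight (Nat.land (Nat.shiftRight cL1_pi_T (Nat.mul b1 45056)) cL1_pi_M1) (Nat.mul b2 352)) cL1_pi_M2) (Nat.mul (Nat.land p 31) 11)) 2047

noncomputable def cL1_tr_T : Nat := (Nat.lor cL1_tr_p0 (Nat.shiftLeft cL1_tr_p1 15996))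
noncomputable def cL1_tr_M1 : Nat := Nat.sub (Nat.shiftLeft 1 49152) 1
noncomputable def cL1_tr_M2 : Nat := Nat.sub (Nat.shiftLeft 1 384) 1
noncomputable def cL1_tr (p : Nat) : Nat :=
  force (Nat.shiftRight p 12) fun b1 => force (Nat.land (Nat.shiftRight p 5) 127) fun b2 =>
    Nat.land (Nat.shiftRight (Nat.land (Nat.shiftRight (Nat.land (Nat.shiftRight cL1_tr_T (Nat.mul b1 49152)) cL1_tr_M1) (Nat.mul b2 384)) cL1_tr_M2) (Nat.mul (Nat.land p 31) 12)) 4095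

noncomputable def cL1 : LevD := ⟨1, 1680, 2, 21, cL1_pt, cL1_pi, cL1_tr⟩

noncomputable def cL2_pt_T : Nat := cL2_pt_p0
noncomputable def cL2_pt_M1 : Nat := Nat.sub (Nat.shiftLeft 1 49152) 1
noncomputable def cL2_pt_M2 : Nat := Nat.sub (Nat.shiftLeft 1 384) 1
noncomputable def cL2_pt (p : Nat) : Nat :=
  force (Nat.shiftRight p 12) fun b1 => force (Nat.land (Nat.shiftRight p 5) 127) fun b2 =>
    Nat.land (Nat.shiftRight (Nat.land (Nat.shiftRight (Nat.land (Nat.shiftRight cL2_pt_T (Nat.mul b1 49152)) cL2_pt_M1) (Nat.mul b2 384)) cL2_pt_M2) (Nat.mul (Nat.land p 31) 12)) 4095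

noncomputable def cL2_pi_T : Nat := (Nat.lor cL2_pi_p0 (Nat.shiftLeft cL2_pi_p1 16000))
noncomputable def cL2_pi_M1 : Nat := Nat.sub (Nat.shiftLeft 1 32768) 1
noncomputable def cL2_pi_M2 : Nat := Nat.sub (Nat.shiftLeft 1 256) 1
noncomputable def cL2_pi (p : Nat) : Nat :=
  force (Nat.shiftRight p 12) fun b1 => force (Nat.land (Nat.shiftRight p 5) 127) fun b2 =>
    Nat.land (Nat.shiftRight (Nat.land (Nat.shiftRight (Nat.land (Nat.shiftRight cL2_pi_T (Nat.mul b1 32768)) cL2_pi_M1) (Nat.mul b2 256)) cL2_pi_M2) (Nat.mul (Nat.land p 31) 8)) 255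

noncomputable def cL2_tr_T : Nat := cL2_tr_p0
noncomputable def cL2_tr_M1 : Nat := Nat.sub (Nat.shiftLeft 1 45056) 1
noncomputable def cL2_tr_M2 : Nat := Nat.sub (Nat.shiftLeft 1 352) 1
noncomputable def cL2_tr (p : Nat) : Nat :=
  force (Nat.shiftRight p 12) fun b1 => force (Nat.land (Nat.shiftRight p 5) 127) fun b2 =>
    Nat.land (Nat.shiftRight (Nat.land (Nat.shiftRight (Nat.land (Nat.shiftRight cL2_tr_T (Nat.mul b1 45056)) cL2_tr_M1) (Nat.mul b2 352)) cL2_tr_M2) (Nat.mul (Nat.land p 31) 11)) 2047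

noncomputable def cL2 : LevD := ⟨9, 243, 7, 23, cL2_pt, cL2_pi, cL2_tr⟩

noncomputable def cL3_pt_T : Nat := cL3_pt_p0
noncomputable def cL3_pt_M1 : Nat := Nat.sub (Nat.shiftLeft 1 49152) 1
noncomputable def cL3_pt_M2 : Nat := Nat.sub (Nat.shiftLeft 1 384) 1
noncomputable def cL3_pt (p : Nat) : Nat :=
  force (Nat.shiftRight p 12) fun b1 => force (Nat.land (Nat.shiftRight p 5) 127) fun b2 =>
    Nat.land (Nat.shiftRight (Nat.land (Nat.shiftRight (Nat.land (Nat.shiftRight cL3_pt_T (Nat.mul b1 49152)) cL3_pt_M1) (Nat.mul b2 384)) cL3_pt_M2) (Nat.mul (Nat.land p 31) 12)) 4095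

noncomputable def cL3_pi_T : Nat := (Nat.lor cL3_pi_p0 (Nat.shiftLeft cL3_pi_p1 16000))
noncomputable def cL3_pi_M1 : Nat := Nat.sub (Nat.shiftLeft 1 20480) 1
noncomputable def cL3_pi_M2 : Nat := Nat.sub (Nat.shiftLeft 1 160) 1
noncomputable def cL3_pi (p : Nat) : Nat :=
  force (Nat.shiftRight p 12) fun b1 => force (Nat.land (Nat.shiftRight p 5) 127) fun b2 =>
    Nat.land (Nat.shiftRight (Nat.land (Nat.shiftRight (Nat.land (Nat.shiftRight cL3_pi_T (Nat.mul b1 20480)) cL3_pi_M1) (Nat.mul b2 160)) cL3_pi_M2) (Nat.mul (Nat.land p 31) 5)) 31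

noncomputable def cL3_tr_T : Nat := cL3_tr_p0
noncomputable def cL3_tr_M1 : Nat := Nat.sub (Nat.shiftLeft 1 20480) 1
noncomputable def cL3_tr_M2 : Nat := Nat.sub (Nat.shiftLeft 1 160) 1
noncomputable def cL3_tr (p : Nat) : Nat :=
  force (Nat.shiftRight p 12) fun b1 => force (Nat.land (Nat.shiftRight p 5) 127) fun b2 =>
    Nat.land (Nat.shiftRight (Nat.land (Nat.shiftRight (Nat.land (Nat.shiftRight cL3_tr_T (Nat.mul b1 20480)) cL3_tr_M1) (Nat.mul b2 160)) cL3_tr_M2) (Nat.mul (Nat.land p 31) 5)) 31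

noncomputable def cL3 : LevD := ⟨8, 16, 4, 30, cL3_pt, cL3_pi, cL3_tr⟩

noncomputable def ds : List LevD := [dL0, dL1, dL2, dL3, dL4]
noncomputable def cs : List LevD := [cL0, cL1, cL2, cL3]

noncomputable def FPL_T : Nat := (Nat.lor (Nat.lor FPL_p0 (Nat.shiftLeft FPL_p1 15990)) (Nat.shiftLeft (Nat.lor FPL_p2 (Nat.shiftLeft FPL_p3 15990)) 31980))
noncomputable def FPL_M1 : Nat := Nat.sub (Nat.shiftLeft 1 61440) 1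
noncomputable def FPL_M2 : Nat := Nat.sub (Nat.shiftLeft 1 480) 1
noncomputable def FPL (p : Nat) : Nat :=
  force (Nat.shiftRight p 12) fun b1 => force (Nat.land (Nat.shiftRight p 5) 127) fun b2 =>
    Nat.land (Nat.shiftRight (Nat.land (Nat.shiftRight (Nat.land (Nat.shiftRight FPL_T (Nat.mul b1 61440)) FPL_M1) (Nat.mul b2 480)) FPL_M2) (Nat.mul (Nat.land p 31) 15)) 32767

noncomputable def DD : Frs := ⟨1, 674, FPL, 8, 42, 6, 3510, [3228, 2998, 2771, 675, 625]⟩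

noncomputable def SPK_T : Nat := (Nat.lor (Nat.lor (Nat.lor (Nat.lor (Nat.lor (Nat.lor (Nat.lor (Nat.lor SPK_p0 (Nat.shiftLeft SPK_p1 15984)) (Nat.shiftLeft (Nat.lor SPK_p2 (Nat.shiftLeft SPK_p3 15984)) 31968)) (Nat.shiftLeft (Nat.lor (Nat.lor SPK_p4 (Nat.shiftLeft SPK_p5 15984)) (Nat.shiftLeft (Nat.lor SPK_p6 (Nat.shiftLeft (Nat.lor SPK_p7 (Nat.shiftLeft SPK_p8 15984)) 15984)) 31968)) 63936)) (Nat.shiftLeft (Nat.lor (Nat.lor (Nat.lor SPK_p9 (Nat.shiftLeft SPK_p10 15984)) (Nat.shiftLeft (Nat.lor SPK_p11 (Nat.shiftLeft (Nat.lor SPK_p12 (Nat.shiftLeft SPK_p13 15984)) 15984)) 31968)) (Nat.shiftLeft (Nat.lor (Nat.lor SPK_p14 (Nat.shiftLeft SPK_p15 15984)) (Nat.shiftLeft (Nat.lor SPK_p16 (Nat.shiftLeft (Nat.lor SPK_p17 (Nat.shiftLeft SPK_p18 15984)) 15984)) 31968)) 79920)) 143856)) (Nat.shiftLeft (Nat.lor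 (Nat.lor (Nat.lor (Nat.lor SPK_p19 (Nat.shiftLeft SPK_p20 15984)) (Nat.shiftLeft (Nat.lor SPK_p21 (Nat.shiftLeft SPK_p22 15984)) 31968)) (Nat.shiftLeft (Nat.lor (Nat.lor SPK_p23 (Nat.shiftLeft SPK_p24 15984)) (Nat.shiftLeft (Nat.lor SPK_p25 (Nat.shiftLeft (Nat.lor SPK_p26 (Nat.shiftLeft SPK_p27 15984)) 15984)) 31968)) 63936)) (Nat.shiftLeft (Nat.lor (Nat.lor (Nat.lor SPK_p28 (Nat.shiftLeft SPK_p29 15984)) (Nat.shiftLeft (Nat.lor SPK_p30 (Nat.shiftLeft (Nat.lor SPK_p31 (Nat.shiftLeft SPK_p32 15984)) 15984)) 31968)) (Nat.shiftLeft (Nat.lor (Nat.lor SPK_p33 (Nat.shiftLeft SPK_p34 15984)) (Nat.shiftLeft (Nat.lor SPK_p35 (Nat.shiftLeft (Nat.lor SPK_p36 (Nat.shiftLeft SPK_p37 15984)) 15984)) 31968)) 79920)) 143856)) 303696)) (Nat.shiftLeft (Nat.lor (Nat.lor (Nat.lor (Nat.lor (Nat.lor SPK_p38 (Nat.shiftLeft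 SPK_p39 15984)) (Nat.shiftLeft (Nat.lor SPK_p40 (Nat.shiftLeft SPK_p41 15984)) 31968)) (Nat.shiftLeft (Nat.lor (Nat.lor SPK_p42 (Nat.shiftLeft SPK_p43 15984)) (Nat.shiftLeft (Nat.lor SPK_p44 (Nat.shiftLeft (Nat.lor SPK_p45 (Nat.shiftLeft SPK_p46 15984)) 15984)) 31968)) 63936)) (Nat.shiftLeft (Nat.lor (Nat.lor (Nat.lor SPK_p47 (Nat.shiftLeft SPK_p48 15984)) (Nat.shiftLeft (Nat.lor SPK_p49 (Nat.shiftLeft (Nat.lor SPK_p50 (Nat.shiftLeft SPK_p51 15984)) 15984)) 31968)) (Nat.shiftLeft (Nat.lor (Nat.lor SPK_p52 (Nat.shiftLeft SPK_p53 15984)) (Nat.shiftLeft (Nat.lor SPK_p54 (Nat.shiftLeft (Nat.lor SPK_p55 (Nat.shiftLeft SPK_p56 15984)) 15984)) 31968)) 79920)) 143856)) (Nat.shiftLeft (Nat.lor (Nat.lor (Nat.lor (Nat.lor SPK_p57 (Nat.shiftLeft SPK_p58 15984)) (Nat.shiftLeft (Nat.lor SPK_p59 (Nat.shiftLeft SPK_p60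 15984)) 31968)) (Nat.shiftLeft (Nat.lor (Nat.lor SPK_p61 (Nat.shiftLeft SPK_p62 15984)) (Nat.shiftLeft (Nat.lor SPK_p63 (Nat.shiftLeft (Nat.lor SPK_p64 (Nat.shiftLeft SPK_p65 15984)) 15984)) 31968)) 63936)) (Nat.shiftLeft (Nat.lor (Nat.lor (Nat.lor SPK_p66 (Nat.shiftLeft SPK_p67 15984)) (Nat.shiftLeft (Nat.lor SPK_p68 (Nat.shiftLeft (Nat.lor SPK_p69 (Nat.shiftLeft SPK_p70 15984)) 15984)) 31968)) (Nat.shiftLeft (Nat.lor (Nat.lor SPK_p71 (Nat.shiftLeft SPK_p72 15984)) (Nat.shiftLeft (Nat.lor SPK_p73 (Nat.shiftLeft (Nat.lor SPK_p74 (Nat.shiftLeft SPK_p75 15984)) 15984)) 31968)) 79920)) 143856)) 303696)) 607392)) (Nat.shiftLeft (Nat.lor (Nat.lor (Nat.lor (Nat.lor (Nat.lor (Nat.lor SPK_p76 (Nat.shiftLeft SPK_p77 15984)) (Nat.shiftLeft (Nat.lor SPK_p78 (Nat.shiftLeft SPK_p79 15984)) 31968)) (Nat.shiftLeft (Nat.lor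 (Nat.lor SPK_p80 (Nat.shiftLeft SPK_p81 15984)) (Nat.shiftLeft (Nat.lor SPK_p82 (Nat.shiftLeft (Nat.lor SPK_p83 (Nat.shiftLeft SPK_p84 15984)) 15984)) 31968)) 63936)) (Nat.shiftLeft (Nat.lor (Nat.lor (Nat.lor SPK_p85 (Nat.shiftLeft SPK_p86 15984)) (Nat.shiftLeft (Nat.lor SPK_p87 (Nat.shiftLeft (Nat.lor SPK_p88 (Nat.shiftLeft SPK_p89 15984)) 15984)) 31968)) (Nat.shiftLeft (Nat.lor (Nat.lor SPK_p90 (Nat.shiftLeft SPK_p91 15984)) (Nat.shiftLeft (Nat.lor SPK_p92 (Nat.shiftLeft (Nat.lor SPK_p93 (Nat.shiftLeft SPK_p94 15984)) 15984)) 31968)) 79920)) 143856)) (Nat.shiftLeft (Nat.lor (Nat.lor (Nat.lor (Nat.lor SPK_p95 (Nat.shiftLeft SPK_p96 15984)) (Nat.shiftLeft (Nat.lor SPK_p97 (Nat.shiftLeft SPK_p98 15984)) 31968)) (Nat.shiftLeft (Nat.lor (Nat.lor SPK_p99 (Nat.shiftLeft SPK_p100 15984)) (Nat.shiftLeft (Nat.lor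 SPK_p101 (Nat.shiftLeft (Nat.lor SPK_p102 (Nat.shiftLeft SPK_p103 15984)) 15984)) 31968)) 63936)) (Nat.shiftLeft (Nat.lor (Nat.lor (Nat.lor SPK_p104 (Nat.shiftLeft SPK_p105 15984)) (Nat.shiftLeft (Nat.lor SPK_p106 (Nat.shiftLeft (Nat.lor SPK_p107 (Nat.shiftLeft SPK_p108 15984)) 15984)) 31968)) (Nat.shiftLeft (Nat.lor (Nat.lor SPK_p109 (Nat.shiftLeft SPK_p110 15984)) (Nat.shiftLeft (Nat.lor SPK_p111 (Nat.shiftLeft (Nat.lor SPK_p112 (Nat.shiftLeft SPK_p113 15984)) 15984)) 31968)) 79920)) 143856)) 303696)) (Nat.shiftLeft (Nat.lor (Nat.lor (Nat.lor (Nat.lor (Nat.lor SPK_p114 (Nat.shiftLeft SPK_p115 15984)) (Nat.shiftLeft (Nat.lor SPK_p116 (Nat.shiftLeft SPK_p117 15984)) 31968)) (Nat.shiftLeft (Nat.lor (Nat.lor SPK_p118 (Nat.shiftLeft SPK_p119 15984)) (Nat.shiftLeft (Nat.lor SPK_p120 (Nat.shiftLeft (Nat.lor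 SPK_p121 (Nat.shiftLeft SPK_p122 15984)) 15984)) 31968)) 63936)) (Nat.shiftLeft (Nat.lor (Nat.lor (Nat.lor SPK_p123 (Nat.shiftLeft SPK_p124 15984)) (Nat.shiftLeft (Nat.lor SPK_p125 (Nat.shiftLeft (Nat.lor SPK_p126 (Nat.shiftLeft SPK_p127 15984)) 15984)) 31968)) (Nat.shiftLeft (Nat.lor (Nat.lor SPK_p128 (Nat.shiftLeft SPK_p129 15984)) (Nat.shiftLeft (Nat.lor SPK_p130 (Nat.shiftLeft (Nat.lor SPK_p131 (Nat.shiftLeft SPK_p132 15984)) 15984)) 31968)) 79920)) 143856)) (Nat.shiftLeft (Nat.lor (Nat.lor (Nat.lor (Nat.lor SPK_p133 (Nat.shiftLeft SPK_p134 15984)) (Nat.shiftLeft (Nat.lor SPK_p135 (Nat.shiftLeft SPK_p136 15984)) 31968)) (Nat.shiftLeft (Nat.lor (Nat.lor SPK_p137 (Nat.shiftLeft SPK_p138 15984)) (Nat.shiftLeft (Nat.lor SPK_p139 (Nat.shiftLeft (Nat.lor SPK_p140 (Nat.shiftLeft SPK_p141 15984)) 15984))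 31968)) 63936)) (Nat.shiftLeft (Nat.lor (Nat.lor (Nat.lor SPK_p142 (Nat.shiftLeft SPK_p143 15984)) (Nat.shiftLeft (Nat.lor SPK_p144 (Nat.shiftLeft (Nat.lor SPK_p145 (Nat.shiftLeft SPK_p146 15984)) 15984)) 31968)) (Nat.shiftLeft (Nat.lor (Nat.lor SPK_p147 (Nat.shiftLeft SPK_p148 15984)) (Nat.shiftLeft (Nat.lor SPK_p149 (Nat.shiftLeft (Nat.lor SPK_p150 (Nat.shiftLeft SPK_p151 15984)) 15984)) 31968)) 79920)) 143856)) 303696)) 607392)) 1214784)) (Nat.shiftLeft (Nat.lor (Nat.lor (Nat.lor (Nat.lor (Nat.lor (Nat.lor (Nat.lor SPK_p152 (Nat.shiftLeft SPK_p153 15984)) (Nat.shiftLeft (Nat.lor SPK_p154 (Nat.shiftLeft SPK_p155 15984)) 31968)) (Nat.shiftLeft (Nat.lor (Nat.lor SPK_p156 (Nat.shiftLeft SPK_p157 15984)) (Nat.shiftLeft (Nat.lor SPK_p158 (Nat.shiftLeft (Nat.lor SPK_p159 (Nat.shiftLeft SPK_p160 15984)) 15984))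 31968)) 63936)) (Nat.shiftLeft (Nat.lor (Nat.lor (Nat.lor SPK_p161 (Nat.shiftLeft SPK_p162 15984)) (Nat.shiftLeft (Nat.lor SPK_p163 (Nat.shiftLeft (Nat.lor SPK_p164 (Nat.shiftLeft SPK_p165 15984)) 15984)) 31968)) (Nat.shiftLeft (Nat.lor (Nat.lor SPK_p166 (Nat.shiftLeft SPK_p167 15984)) (Nat.shiftLeft (Nat.lor SPK_p168 (Nat.shiftLeft (Nat.lor SPK_p169 (Nat.shiftLeft SPK_p170 15984)) 15984)) 31968)) 79920)) 143856)) (Nat.shiftLeft (Nat.lor (Nat.lor (Nat.lor (Nat.lor SPK_p171 (Nat.shiftLeft SPK_p172 15984)) (Nat.shiftLeft (Nat.lor SPK_p173 (Nat.shiftLeft SPK_p174 15984)) 31968)) (Nat.shiftLeft (Nat.lor (Nat.lor SPK_p175 (Nat.shiftLeft SPK_p176 15984)) (Nat.shiftLeft (Nat.lor SPK_p177 (Nat.shiftLeft (Nat.lor SPK_p178 (Nat.shiftLeft SPK_p179 15984)) 15984)) 31968)) 63936)) (Nat.shiftLeft (Nat.lor (Nat.lor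 (Nat.lor SPK_p180 (Nat.shiftLeft SPK_p181 15984)) (Nat.shiftLeft (Nat.lor SPK_p182 (Nat.shiftLeft (Nat.lor SPK_p183 (Nat.shiftLeft SPK_p184 15984)) 15984)) 31968)) (Nat.shiftLeft (Nat.lor (Nat.lor SPK_p185 (Nat.shiftLeft SPK_p186 15984)) (Nat.shiftLeft (Nat.lor SPK_p187 (Nat.shiftLeft (Nat.lor SPK_p188 (Nat.shiftLeft SPK_p189 15984)) 15984)) 31968)) 79920)) 143856)) 303696)) (Nat.shiftLeft (Nat.lor (Nat.lor (Nat.lor (Nat.lor (Nat.lor SPK_p190 (Nat.shiftLeft SPK_p191 15984)) (Nat.shiftLeft (Nat.lor SPK_p192 (Nat.shiftLeft SPK_p193 15984)) 31968)) (Nat.shiftLeft (Nat.lor (Nat.lor SPK_p194 (Nat.shiftLeft SPK_p195 15984)) (Nat.shiftLeft (Nat.lor SPK_p196 (Nat.shiftLeft (Nat.lor SPK_p197 (Nat.shiftLeft SPK_p198 15984)) 15984)) 31968)) 63936)) (Nat.shiftLeft (Nat.lor (Nat.lor (Nat.lor SPK_p199 (Nat.shiftLeft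 SPK_p200 15984)) (Nat.shiftLeft (Nat.lor SPK_p201 (Nat.shiftLeft (Nat.lor SPK_p202 (Nat.shiftLeft SPK_p203 15984)) 15984)) 31968)) (Nat.shiftLeft (Nat.lor (Nat.lor SPK_p204 (Nat.shiftLeft SPK_p205 15984)) (Nat.shiftLeft (Nat.lor SPK_p206 (Nat.shiftLeft (Nat.lor SPK_p207 (Nat.shiftLeft SPK_p208 15984)) 15984)) 31968)) 79920)) 143856)) (Nat.shiftLeft (Nat.lor (Nat.lor (Nat.lor (Nat.lor SPK_p209 (Nat.shiftLeft SPK_p210 15984)) (Nat.shiftLeft (Nat.lor SPK_p211 (Nat.shiftLeft SPK_p212 15984)) 31968)) (Nat.shiftLeft (Nat.lor (Nat.lor SPK_p213 (Nat.shiftLeft SPK_p214 15984)) (Nat.shiftLeft (Nat.lor SPK_p215 (Nat.shiftLeft (Nat.lor SPK_p216 (Nat.shiftLeft SPK_p217 15984)) 15984)) 31968)) 63936)) (Nat.shiftLeft (Nat.lor (Nat.lor (Nat.lor SPK_p218 (Nat.shiftLeft SPK_p219 15984)) (Nat.shiftLeft (Nat.lor SPK_p220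 (Nat.shiftLeft (Nat.lor SPK_p221 (Nat.shiftLeft SPK_p222 15984)) 15984)) 31968)) (Nat.shiftLeft (Nat.lor (Nat.lor SPK_p223 (Nat.shiftLeft SPK_p224 15984)) (Nat.shiftLeft (Nat.lor SPK_p225 (Nat.shiftLeft (Nat.lor SPK_p226 (Nat.shiftLeft SPK_p227 15984)) 15984)) 31968)) 79920)) 143856)) 303696)) 607392)) (Nat.shiftLeft (Nat.lor (Nat.lor (Nat.lor (Nat.lor (Nat.lor (Nat.lor SPK_p228 (Nat.shiftLeft SPK_p229 15984)) (Nat.shiftLeft (Nat.lor SPK_p230 (Nat.shiftLeft SPK_p231 15984)) 31968)) (Nat.shiftLeft (Nat.lor (Nat.lor SPK_p232 (Nat.shiftLeft SPK_p233 15984)) (Nat.shiftLeft (Nat.lor SPK_p234 (Nat.shiftLeft (Nat.lor SPK_p235 (Nat.shiftLeft SPK_p236 15984)) 15984)) 31968)) 63936)) (Nat.shiftLeft (Nat.lor (Nat.lor (Nat.lor SPK_p237 (Nat.shiftLeft SPK_p238 15984)) (Nat.shiftLeft (Nat.lor SPK_p239 (Nat.shiftLeft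 (Nat.lor SPK_p240 (Nat.shiftLeft SPK_p241 15984)) 15984)) 31968)) (Nat.shiftLeft (Nat.lor (Nat.lor SPK_p242 (Nat.shiftLeft SPK_p243 15984)) (Nat.shiftLeft (Nat.lor SPK_p244 (Nat.shiftLeft (Nat.lor SPK_p245 (Nat.shiftLeft SPK_p246 15984)) 15984)) 31968)) 79920)) 143856)) (Nat.shiftLeft (Nat.lor (Nat.lor (Nat.lor (Nat.lor SPK_p247 (Nat.shiftLeft SPK_p248 15984)) (Nat.shiftLeft (Nat.lor SPK_p249 (Nat.shiftLeft SPK_p250 15984)) 31968)) (Nat.shiftLeft (Nat.lor (Nat.lor SPK_p251 (Nat.shiftLeft SPK_p252 15984)) (Nat.shiftLeft (Nat.lor SPK_p253 (Nat.shiftLeft (Nat.lor SPK_p254 (Nat.shiftLeft SPK_p255 15984)) 15984)) 31968)) 63936)) (Nat.shiftLeft (Nat.lor (Nat.lor (Nat.lor SPK_p256 (Nat.shiftLeft SPK_p257 15984)) (Nat.shiftLeft (Nat.lor SPK_p258 (Nat.shiftLeft (Nat.lor SPK_p259 (Nat.shiftLeft SPK_p260 15984))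 15984)) 31968)) (Nat.shiftLeft (Nat.lor (Nat.lor SPK_p261 (Nat.shiftLeft SPK_p262 15984)) (Nat.shiftLeft (Nat.lor SPK_p263 (Nat.shiftLeft (Nat.lor SPK_p264 (Nat.shiftLeft SPK_p265 15984)) 15984)) 31968)) 79920)) 143856)) 303696)) (Nat.shiftLeft (Nat.lor (Nat.lor (Nat.lor (Nat.lor (Nat.lor SPK_p266 (Nat.shiftLeft SPK_p267 15984)) (Nat.shiftLeft (Nat.lor SPK_p268 (Nat.shiftLeft SPK_p269 15984)) 31968)) (Nat.shiftLeft (Nat.lor (Nat.lor SPK_p270 (Nat.shiftLeft SPK_p271 15984)) (Nat.shiftLeft (Nat.lor SPK_p272 (Nat.shiftLeft (Nat.lor SPK_p273 (Nat.shiftLeft SPK_p274 15984)) 15984)) 31968)) 63936)) (Nat.shiftLeft (Nat.lor (Nat.lor (Nat.lor SPK_p275 (Nat.shiftLeft SPK_p276 15984)) (Nat.shiftLeft (Nat.lor SPK_p277 (Nat.shiftLeft (Nat.lor SPK_p278 (Nat.shiftLeft SPK_p279 15984)) 15984)) 31968)) (Nat.shiftLeft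 (Nat.lor (Nat.lor SPK_p280 (Nat.shiftLeft SPK_p281 15984)) (Nat.shiftLeft (Nat.lor SPK_p282 (Nat.shiftLeft (Nat.lor SPK_p283 (Nat.shiftLeft SPK_p284 15984)) 15984)) 31968)) 79920)) 143856)) (Nat.shiftLeft (Nat.lor (Nat.lor (Nat.lor (Nat.lor SPK_p285 (Nat.shiftLeft SPK_p286 15984)) (Nat.shiftLeft (Nat.lor SPK_p287 (Nat.shiftLeft SPK_p288 15984)) 31968)) (Nat.shiftLeft (Nat.lor (Nat.lor SPK_p289 (Nat.shiftLeft SPK_p290 15984)) (Nat.shiftLeft (Nat.lor SPK_p291 (Nat.shiftLeft (Nat.lor SPK_p292 (Nat.shiftLeft SPK_p293 15984)) 15984)) 31968)) 63936)) (Nat.shiftLeft (Nat.lor (Nat.lor (Nat.lor SPK_p294 (Nat.shiftLeft SPK_p295 15984)) (Nat.shiftLeft (Nat.lor SPK_p296 (Nat.shiftLeft (Nat.lor SPK_p297 (Nat.shiftLeft SPK_p298 15984)) 15984)) 31968)) (Nat.shiftLeft (Nat.lor (Nat.lor SPK_p299 (Nat.shiftLeft SPK_p300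 15984)) (Nat.shiftLeft (Nat.lor SPK_p301 (Nat.shiftLeft (Nat.lor SPK_p302 (Nat.shiftLeft SPK_p303 15984)) 15984)) 31968)) 79920)) 143856)) 303696)) 607392)) 1214784)) 2429568))
noncomputable def SPK_M1 : Nat := Nat.sub (Nat.shiftLeft 1 151552) 1
noncomputable def SPK_M2 : Nat := Nat.sub (Nat.shiftLeft 1 1184) 1
noncomputable def SPK (p : Nat) : Nat :=
  force (Nat.shiftRight p 12) fun b1 => force (Nat.land (Nat.shiftRight p 5) 127) fun b2 =>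
    Nat.land (Nat.shiftRight (Nat.land (Nat.shiftRight (Nat.land (Nat.shiftRight SPK_T (Nat.mul b1 151552)) SPK_M1) (Nat.mul b2 1184)) SPK_M2) (Nat.mul (Nat.land p 31) 37)) 137438953471

noncomputable def SCN_T : Nat := SCN_p0
noncomputable def SCN_M1 : Nat := Nat.sub (Nat.shiftLeft 1 65536) 1
noncomputable def SCN_M2 : Nat := Nat.sub (Nat.shiftLeft 1 512) 1
noncomputable def SCN (p : Nat) : Nat :=
  force (Nat.shiftRight p 12) fun b1 => force (Nat.land (Nat.shiftRight p 5) 127) fun b2 =>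
    Nat.land (Nat.shiftRight (Nat.land (Nat.shiftRight (Nat.land (Nat.shiftRight SCN_T (Nat.mul b1 65536)) SCN_M1) (Nat.mul b2 512)) SCN_M2) (Nat.mul (Nat.land p 31) 16)) 65535

noncomputable def WPT_T : Nat := WPT_p0
noncomputable def WPT_M1 : Nat := Nat.sub (Nat.shiftLeft 1 49152) 1
noncomputable def WPT_M2 : Nat := Nat.sub (Nat.shiftLeft 1 384) 1
noncomputable def WPT (p : Nat) : Nat :=
  force (Nat.shiftRight p 12) fun b1 => force (Nat.land (Nat.shiftRight p 5) 127) fun b2 =>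
    Nat.land (Nat.shiftRight (Nat.land (Nat.shiftRight (Nat.land (Nat.shiftRight WPT_T (Nat.mul b1 49152)) WPT_M1) (Nat.mul b2 384)) WPT_M2) (Nat.mul (Nat.land p 31) 12)) 4095

noncomputable def WPI_T : Nat := (Nat.lor (Nat.lor WPI_p0 (Nat.shiftLeft (Nat.lor WPI_p1 (Nat.shiftLeft WPI_p2 16000)) 16000)) (Nat.shiftLeft (Nat.lor WPI_p3 (Nat.shiftLeft (Nat.lor WPI_p4 (Nat.shiftLeft WPI_p5 16000)) 16000)) 48000))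
noncomputable def WPI_M1 : Nat := Nat.sub (Nat.shiftLeft 1 32768) 1
noncomputable def WPI_M2 : Nat := Nat.sub (Nat.shiftLeft 1 256) 1
noncomputable def WPI (p : Nat) : Nat :=
  force (Nat.shiftRight p 12) fun b1 => force (Nat.land (Nat.shiftRight p 5) 127) fun b2 =>
    Nat.land (Nat.shiftRight (Nat.land (Nat.shiftRight (Nat.land (Nat.shiftRight WPI_T (Nat.mul b1 32768)) WPI_M1) (Nat.mul b2 256)) WPI_M2) (Nat.mul (Nat.land p 31) 8)) 255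

def sqL : List Nat := [0, 0, 0, 1, 0, 0, 0, 16, 16, 0, 0, 0, 0, 0, 2080, 7200, 36274]
def wlL : List Nat := [0, 0, 0, 0, 1, 1, 1, 1, 1, 1, 2, 2, 2, 2, 2, 2, 2]
def wsL : List Nat := [1, 2, 4, 8, 1, 2, 4, 8, 16, 32, 1, 2, 4, 8, 16, 32, 64]
def wbL : List Nat := [192, 1, 0]
def wmL : List Nat := [16, 64, 128]
noncomputable def SS : PcD where
  off := 50
  a := 17
  sq := fun k => sqL.getD k 0
  cn := SCN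
  wl := fun k => wlL.getD k 0
  ws := fun k => wsL.getD k 0
  wb := fun k => wbL.getD k 0
  wpt := fun l i => WPT (Nat.add (Nat.mul l 128) i)
  wpi := fun l q => WPI (Nat.add (Nat.mul l 3510) q)
  wm := fun k => wmL.getD k 0
  lv := 3
  pk := SPK

noncomputable def OPL0_T : Nat := (Nat.lor (Nat.lor OPL0_p0 (Nat.shiftLeft OPL0_p1 15990)) (Nat.shiftLeft (Nat.lor OPL0_p2 (Nat.shiftLeft OPL0_p3 15990)) 31980))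
noncomputable def OPL0_M1 : Nat := Nat.sub (Nat.shiftLeft 1 61440) 1
noncomputable def OPL0_M2 : Nat := Nat.sub (Nat.shiftLeft 1 480) 1
noncomputable def OPL0 (p : Nat) : Nat :=
  force (Nat.shiftRight p 12) fun b1 => force (Nat.land (Nat.shiftRight p 5) 127) fun b2 =>
    Nat.land (Nat.shiftRight (Nat.land (Nat.shiftRight (Nat.land (Nat.shiftRight OPL0_T (Nat.mul b1 61440)) OPL0_M1) (Nat.mul b2 480)) OPL0_M2) (Nat.mul (Nat.land p 31) 15)) 32767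

noncomputable def OO0 : Frs := ⟨68, 304, OPL0, 8, 42, 5, 3513, [1575, 1264, 1927]⟩

noncomputable def OPL1_T : Nat := (Nat.lor (Nat.lor OPL1_p0 (Nat.shiftLeft OPL1_p1 15990)) (Nat.shiftLeft (Nat.lor OPL1_p2 (Nat.shiftLeft OPL1_p3 15990)) 31980))
noncomputable def OPL1_M1 : Nat := Nat.sub (Nat.shiftLeft 1 61440) 1
noncomputable def OPL1_M2 : Nat := Nat.sub (Nat.shiftLeft 1 480) 1
noncomputable def OPL1 (p : Nat) : Nat :=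
  force (Nat.shiftRight p 12) fun b1 => force (Nat.land (Nat.shiftRight p 5) 127) fun b2 =>
    Nat.land (Nat.shiftRight (Nat.land (Nat.shiftRight (Nat.land (Nat.shiftRight OPL1_T (Nat.mul b1 61440)) OPL1_M1) (Nat.mul b2 480)) OPL1_M2) (Nat.mul (Nat.land p 31) 15)) 32767

noncomputable def OO1 : Frs := ⟨69, 2257, OPL1, 8, 42, 5, 3514, [152, 3340, 2508]⟩

noncomputable def Os : List Frs := [OO0, OO1]

def wdsL : List (List Nat) := [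
  [],
  [10, 12, 11, 6, 7, 8, 6, 4, 5, 4, 4, 5, 4, 4, 5, 5, 4, 4, 5, 3, 2, 2, 2, 3, 2, 3, 2, 2, 3, 2, 0, 1, 0, 0, 1, 0, 1, 0, 0, 0, 0, 1, 0, 0, 0, 0, 1],
  [],
  [12, 6, 7, 8, 4, 5, 4, 5, 4, 5, 5, 5, 5, 5, 4, 3, 2, 2, 3, 3, 3, 2, 3, 2, 3, 2, 0, 0, 0, 0, 0, 0, 1, 0, 1, 0, 0, 1, 0, 0, 1],
  [10, 10, 11, 9, 6, 9, 5, 4, 5, 4, 5, 4, 5, 4, 3, 2, 2, 2, 3, 2, 2, 3, 3, 2, 2, 0, 0, 1, 0, 0, 0, 0, 0, 0, 0, 0, 1, 0, 1],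
  [10, 10, 10, 9, 9, 4, 4, 5, 4, 5, 5, 5, 4, 5, 5, 2, 3, 2, 2, 3, 3, 3],
  [10, 11, 9, 7, 9, 8, 4, 4, 5, 4, 5, 5, 4, 5, 4, 4, 4, 2, 2, 3, 3, 2, 3, 2, 3, 2, 2, 3, 0, 1, 0, 0, 1, 0, 1, 0, 0, 0, 1, 0, 0, 0, 0, 1, 0, 0, 1],
  [12, 10, 6, 7, 8, 7, 6, 4, 5, 5, 5, 4, 5, 5, 5, 5, 3, 2, 3, 2, 2, 2, 3, 2, 2, 2, 3, 3, 3, 1, 0, 0, 0, 0, 0, 1, 0, 0, 0, 0, 1, 0, 1, 0, 0, 0, 0],
  [10, 10, 11, 9, 6, 9, 6, 5, 4, 4, 5, 5, 4, 4, 5, 4, 4, 3, 3, 2, 2, 3, 3, 2, 3, 2, 3, 0, 1, 0, 0, 0, 0, 0, 1, 0, 0, 1, 0, 1, 0, 1, 0, 0, 0],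
  [10, 12, 7, 8, 6, 9, 5, 5, 5, 4, 5, 4, 4, 5, 4, 3, 2, 2, 3, 2, 2, 3, 3, 2, 2],
  [10, 10, 8, 7, 7, 6, 5, 4, 4, 4, 5, 4, 4, 2, 2, 3, 3, 2, 3, 3, 2, 2, 2, 2],
  [12, 11, 8, 7, 6, 9, 4, 4, 5, 4, 5, 5, 5, 5, 4, 4, 4, 4, 3, 2, 2, 3, 3, 2, 2, 3, 3, 0, 0, 1, 0, 0, 1, 0, 0, 1, 0, 0, 0, 0, 0],
  [11, 8, 7, 9, 6, 4, 4, 5, 5, 4, 4, 5, 4, 5, 4, 5, 4, 2, 2, 2, 2, 3, 3, 3, 2, 3, 3, 0, 1, 0, 0, 1, 0, 0, 1, 0, 0, 1, 0, 1, 0, 0],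
  [10, 12, 11, 9, 7, 8, 8, 5, 4, 4, 5, 4, 5, 5, 4, 4, 4, 5, 5, 2, 2, 2, 3, 2, 2, 3, 3, 3, 3, 3, 0, 1, 0, 1, 0, 0, 0, 1, 0, 0, 0, 1, 0, 0, 1, 0, 1],
  [10, 11, 7, 9, 8, 8, 8, 4, 5, 4, 4, 4, 4, 5, 4, 2, 3, 3, 2, 2, 2, 2, 3, 2, 3, 3, 0, 1, 0, 1, 0, 1, 0, 0, 0, 1, 0, 0, 0, 0, 0],
  [10, 10, 10, 11, 7, 8, 9, 5, 4, 5, 5, 5, 5, 4, 2, 2, 3, 2, 2, 2, 2, 3, 3, 2, 3, 3, 1, 0, 1, 0, 0, 0, 0, 0, 0, 0, 1, 0, 0, 1, 0],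
  [10, 12, 11, 6, 8, 6, 9, 4, 5, 4, 4, 5, 4, 4, 5, 5, 4, 3, 2, 2, 3, 2, 3, 1, 0, 1, 0, 1, 0, 0, 1, 0, 1, 0, 0],
  [10, 10, 11, 6, 7, 6, 6, 4, 4, 5, 5, 5, 4, 4, 4, 4, 2, 2, 2, 3, 2, 2, 3, 3, 3, 0, 1, 0, 0, 1, 0, 1, 0, 0, 0, 0, 1, 0, 0, 0],
  [12, 10, 7, 8, 6, 8, 7, 5, 5, 5, 5, 5, 4, 5, 5, 4, 4, 4, 2, 2, 2, 3, 3, 2, 2, 2, 3, 3, 0, 0, 1, 0, 0, 1, 0, 0, 0, 0, 1, 0, 0, 1, 0, 0, 0],
  [10, 12, 8, 9, 5, 5, 4, 5, 5, 4, 4, 4, 5, 4, 5, 4, 2, 2, 2, 3, 3, 3, 3, 3, 2, 3, 2, 2, 2, 0, 1, 0, 1, 0, 1, 0, 0, 1, 0],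
  [10, 12, 11, 6, 7, 9, 7, 5, 4, 5, 5, 4, 4, 5, 5, 4, 4, 2, 2, 3, 3, 3, 2, 2, 2, 2, 3, 2, 2, 3, 1, 0, 0, 0, 0, 0, 0, 1, 0, 1, 0, 0, 1, 0, 0, 0, 1, 0, 0],
  [10, 10, 12, 8, 6, 6, 4, 5, 4, 5, 5, 4, 4, 5, 4, 5, 4, 2, 2, 3, 2, 3, 2, 3, 2, 2, 3, 2, 3, 0, 1, 0, 1, 0, 0, 1, 0, 0, 1, 0, 1, 0, 1, 0, 0, 0, 1],
  [12, 11, 9, 6, 7, 8, 5, 5, 4, 5, 4, 4, 5, 4, 4, 4, 3, 2, 2, 2, 3, 3, 3, 3, 3, 3, 3, 2, 0, 0, 0, 0, 0, 1, 0, 1, 0, 0, 0, 1, 0, 0, 1],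
  [11, 12, 7, 6, 7, 6, 5, 5, 5, 4, 4, 5, 5, 4, 4, 5, 4, 3, 3, 3, 2, 2, 2, 0, 1, 0, 1, 0, 0, 1, 0, 1, 0, 0, 0, 0, 0, 0, 1],
  [10, 10, 10, 6, 6, 5, 5, 5, 5, 4, 4, 4, 5, 5, 4, 5, 5, 3, 3, 3, 2, 2, 3, 2, 3, 3, 3, 2, 3, 1, 0, 0, 0, 1, 0, 0, 0, 0, 0, 1, 0, 0, 1, 0, 1, 0],
  [10, 8, 8, 8, 4, 4, 5, 5, 4, 4, 4, 5, 5, 4, 3, 2, 3, 3, 2, 3, 2, 2, 3, 2, 3, 1, 0, 1, 0, 0, 1, 0, 0, 1, 0, 1, 0, 0, 0, 0, 0],
  [10, 11, 12, 8, 7, 7, 6, 4, 5, 5, 5, 5, 5, 4, 5, 5, 5, 4, 4, 5, 2, 2, 2, 2, 2, 3, 3, 2, 2, 3, 2, 0, 0, 0, 1, 0, 0, 0, 0, 0, 0, 0, 1, 0, 0, 0, 0, 1, 0, 1],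
  [10, 10, 10, 11, 6, 6, 9, 6, 5, 5, 4, 4, 5, 4, 4, 5, 4, 5, 5, 3, 2, 3, 2, 2, 3, 2, 2, 3, 3, 3, 0, 0, 1, 0, 0, 1, 0, 0, 0, 1, 0, 0, 0],
  [10, 10, 11, 9, 6, 8, 5, 5, 5, 5, 4, 5, 4, 4, 2, 2, 2, 3, 3, 2, 2, 3, 3, 2, 3, 2, 0, 1, 0, 1, 0, 1, 0, 0, 1, 0, 1, 0, 0, 1, 0],
  [10, 12, 11, 6, 8, 7, 9, 4, 4, 5, 4, 4, 4, 5, 4, 4, 4, 4, 3, 2, 2, 3, 2, 3, 3, 2, 3, 2, 3, 0, 1, 0, 0, 1, 0, 0, 0, 0, 0, 0, 1, 0, 0],
  [10, 9, 6, 9, 6, 5, 4, 5, 5, 4, 5, 4, 3, 2, 3, 2, 2, 3, 2, 2, 3, 2, 3, 0, 0, 0, 0, 1, 0, 0, 0, 0, 1, 0, 1, 0, 0, 0, 0, 1, 0, 1],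
  [10, 10, 11, 6, 8, 7, 6, 4, 4, 5, 5, 4, 5, 5, 4, 5, 5, 4, 3, 3, 2, 3, 3, 3, 3, 3, 2, 2, 2, 0, 1, 0, 0, 1, 0, 0, 0, 1, 0, 0, 1, 0, 1],
  [10, 10, 10, 8, 6, 8, 6, 4, 5, 4, 4, 5, 5, 4, 5, 5, 4, 5, 5, 3, 2, 3, 2, 2, 3, 2, 2, 3, 2, 3, 0, 0, 1, 0, 0, 1, 0, 0, 0, 0, 0],
  [10, 10, 12, 9, 7, 7, 7, 6, 4, 5, 4, 5, 5, 5, 5, 4, 5, 5, 4, 4, 3, 2, 2, 2, 2, 3, 3, 2, 2, 3, 3, 1, 0, 0, 1, 0, 0, 0, 1, 0, 0, 1, 0, 0, 0, 0, 1, 0, 0],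
  [11, 12, 8, 6, 7, 5, 5, 5, 5, 4, 4, 4, 5, 4, 5, 5, 5, 2, 3, 3, 2, 2, 3, 2, 2, 0, 1, 0, 1, 0, 1, 0, 0, 1, 0, 1, 0, 1, 0, 0, 1],
  [10, 10, 8, 8, 9, 6, 5, 4, 4, 5, 5, 4, 4, 4, 5, 4, 5, 2, 2, 2, 2, 3, 2, 3, 3, 3, 2, 3, 3, 1, 0, 1, 0, 0, 0, 1, 0, 1, 0, 1, 0, 1, 0, 0, 1, 0, 0, 0],
  [11, 12, 9, 6, 6, 5, 4, 5, 4, 5, 5, 5, 4, 4, 4, 3, 3, 2, 3, 3, 3, 2, 3, 3, 3, 3, 2, 0, 0, 0, 1, 0, 0, 0, 0, 0, 0, 0, 0, 0, 1, 0],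
  [12, 11, 7, 6, 8, 7, 4, 4, 5, 4, 4, 4, 5, 4, 4, 4, 5, 3, 2, 2, 2, 3, 2, 2, 3, 0, 1, 0, 1, 0, 0, 0, 0, 0, 0, 0, 0],
  [10, 8, 7, 5, 5, 4, 5, 4, 4, 4, 4, 5, 3, 3, 2, 2, 3, 2, 3, 2, 3, 1, 0, 0, 0, 0, 0, 1, 0, 0, 1, 0, 0, 0, 0],
  [10, 10, 12, 7, 6, 7, 9, 9, 4, 4, 5, 4, 5, 5, 5, 4, 5, 5, 5, 5, 2, 2, 2, 3, 2, 3, 3, 2, 2, 3, 3, 1, 0, 1, 0, 0, 0, 0, 0, 1, 0, 0, 0, 0, 0, 1, 0, 1],
  [10, 9, 6, 7, 8, 4, 4, 5, 4, 5, 5, 4, 5, 4, 4, 2, 2, 3, 3, 3, 2, 2, 3, 2, 3, 1, 0, 0, 0, 0, 0, 1, 0, 0, 0, 0, 1, 0, 1, 0, 0, 0, 0, 0],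
  [10, 12, 6, 8, 7, 6, 8, 5, 5, 4, 5, 3, 2, 2, 3, 2, 3, 3, 3, 3, 3, 1, 0, 0, 0, 1, 0, 0, 1, 0, 0, 1, 0, 0, 0],
  [10, 12, 8, 8, 9, 8, 4, 5, 5, 4, 4, 5, 5, 4, 4, 5, 3, 3, 3, 3, 2, 3, 2, 2, 0, 0, 0, 0, 0, 1, 0, 1, 0, 0, 0, 1, 0, 0, 1, 0, 0],
  [10, 11, 9, 8, 6, 4, 5, 5, 4, 5, 4, 5, 5, 5, 5, 3, 3, 3, 3, 2, 3, 3, 2, 3, 2, 3, 1, 0, 1, 0, 0, 0, 0, 0, 1, 0, 0, 0, 0, 1],
  [10, 10, 12, 8, 9, 6, 9, 5, 5, 4, 4, 5, 5, 4, 5, 4, 5, 5, 2, 3, 2, 3, 3, 2, 3, 3, 2, 3, 0, 1, 0, 0, 1, 0, 0, 0, 1, 0, 0, 1, 0, 0, 0, 1],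
  [10, 12, 7, 6, 7, 7, 9, 4, 5, 4, 5, 4, 5, 5, 5, 5, 5, 3, 3, 2, 2, 2, 3, 3, 2, 2, 2, 2, 3, 0, 0, 0, 0, 1, 0, 0, 0, 0, 0, 0, 1, 0, 0, 0, 0, 0],
  [7, 6, 9, 8, 4, 4, 5, 4, 4, 4, 4, 5, 4, 5, 2, 2, 3, 3, 3, 2, 2, 3, 2, 2, 0, 0, 0, 0, 1, 0, 0, 0, 0, 0, 0, 1, 0, 0, 0, 0, 1, 0],
  [11, 12, 9, 9, 9, 5, 4, 5, 5, 4, 5, 5, 5, 5, 3, 3, 3, 2, 2, 3, 2, 2, 2, 2, 0, 1, 0, 0, 1, 0, 0, 0, 1, 0, 0, 0, 0, 0, 0],
  [10, 10, 12, 7, 7, 7, 9, 5, 5, 5, 5, 4, 4, 5, 5, 4, 2, 3, 3, 2, 2, 3, 3, 3, 3, 2, 2, 0, 0, 0, 0, 0, 0, 1, 0, 0, 0, 1, 0, 0, 0, 0, 1, 0, 0, 1, 0],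
  [10, 10, 11, 6, 7, 8, 7, 6, 4, 5, 4, 5, 5, 4, 4, 4, 5, 5, 3, 2, 3, 2, 3, 2, 3, 3, 2, 2, 3, 2, 0, 0, 0, 0, 0, 1, 0, 1, 0, 0, 0, 0, 0, 1],
  [12, 7, 9, 9, 4, 5, 4, 5, 4, 5, 5, 4, 4, 4, 3, 2, 2, 2, 3, 2, 2, 3, 2, 2, 3, 0, 0, 0, 0, 0, 1, 0, 0, 1, 0, 0, 0, 1, 0, 0, 1, 0, 0, 0]]
def wds (j : Nat) : List Nat := wdsL.getD j []

def Bs : List Nat := [0, 1, 192, 54, 8]

def rs : List (List Bool × Nat × Nat) := [([true, false], 7, 3159),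
  ([true, true, true, true, false], 9, 640),
  ([true, false], 7, 1023)]

def goods : List (Nat × Nat) := [(674, 0), (490, 1), (3002, 2), (421, 3), (152, 4), (959, 5), (1018, 6), (592, 7), (419, 8), (1329, 9), (3465, 10), (749, 11), (2706, 12)]

def goodIdx : List Nat := goods.map Prod.fst


end Cfsg.Agent.Lib.PermComp.OutP.Fi22
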